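import Mathlib

/-!
# Arithmetic for the derangement subgroup bound
-/

set_option autoImplicit false

namespace Cfsg.Agent.Derange

/-- Eventually a fixed power of `log n` is dominated by `n`. -/
theorem exists_log_bound : ∃ N : ℕ, ∀ n a : ℕ, N ≤ n → 2 ^ a ≤ n → 15625 * a ^ 24 ≤ n := by
  have h := (tendsto_pow_const_div_const_pow_of_one_lt 24 (show (1 : ℝ) < 2 by norm_num)).eventually
    (ge_mem_nhds (show (0 : ℝ) < 1 / 15625 by norm_num))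
  obtain ⟨a₀, ha₀⟩ := Filter.eventually_atTop.1 h
  refine ⟨15625 * a₀ ^ 24, fun n a hn ha => ?_⟩
  rcases le_total a a₀ with hle | hle
  · exact le_trans (Nat.mul_le_mul_left _ (Nat.pow_le_pow_left hle _)) hn
  · refine le_trans ?_ ha
    have h1 : (a : ℝ) ^ 24 / 2 ^ a ≤ 1 / 15625 := ha₀ a hle
    rw [div_le_div_iff₀ (by positivity) (by norm_num), one_mul] at h1
    have h2 : ((15625 * a ^ 24 : ℕ) : ℝ) ≤ ((2 ^ a : ℕ) : ℝ) := by push_cast; linarith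
    exact_mod_cast h2

theorem sq_le_of_cube {a r w n : ℕ} (hlog : 15625 * a ^ 24 ≤ n) (ha : 1 ≤ a)
    (hr : r ≤ 4 * a ^ 4 * w) (hw : 1 ≤ w) (hwn : w ^ 3 ≤ n) : (r + 1) ^ 2 ≤ n := by
  have h1 : r + 1 ≤ 5 * a ^ 4 * w := by
    have : 1 ≤ a ^ 4 * w := Nat.one_le_iff_ne_zero.2 (Nat.mul_ne_zero (by positivity) (by omega))
    calc r + 1 ≤ 4 * (a ^ 4 * w) + a ^ 4 * w := by rw [← mul_assoc]; omega
      _ = 5 * a ^ 4 * w := by ring
  have h2 : ((r + 1) ^ 2) ^ 3 ≤ n ^ 3 := calc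
    ((r + 1) ^ 2) ^ 3 ≤ ((5 * a ^ 4 * w) ^ 2) ^ 3 :=
      Nat.pow_le_pow_left (Nat.pow_le_pow_left h1 2) 3
    _ = (15625 * a ^ 24) * (w ^ 3 * w ^ 3) := by ring
    _ ≤ n * (n * n) := Nat.mul_le_mul hlog (Nat.mul_le_mul hwn hwn)
    _ = n ^ 3 := by ring
  exact (Nat.pow_le_pow_iff_left (by norm_num)).1 h2

theorem sq_le_of_dvd_factor {u v r n : ℕ} (hu : 2 ≤ u) (hv : 2 ≤ v) (hn : u * v = n)
    (h1 : r ∣ u - 1) (h2 : r ∣ n - 1) : (r + 1) ^ 2 ≤ n := by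
  subst hn
  have h3 : u * v - 1 = v * (u - 1) + (v - 1) := by
    rw [Nat.mul_sub, mul_one, mul_comm v u]
    have : v ≤ u * v := Nat.le_mul_of_pos_left v (by omega)
    omega
  rw [h3] at h2
  have h4 := (Nat.dvd_add_right (h1.mul_left _)).1 h2
  have h5 := Nat.le_of_dvd (by omega) h1
  have h6 := Nat.le_of_dvd (by omega) h4
  rw [sq]
  exact Nat.mul_le_mul (by omega) (by omega)

theorem orbit_count_bound {u : ℕ} : ∀ {c : ℕ}, 2 ≤ c → (c * u + 2) ^ 2 ≤ 4 * (u + 1) ^ c := by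
  intro c hc
  induction c, hc using Nat.le_induction with
  | base => exact le_of_eq (by ring)
  | succ c hc ih =>
    have hcu : 2 * u ≤ c * u := Nat.mul_le_mul_right _ hc
    have h : ((c + 1) * u + 2) ^ 2 ≤ (u + 1) * (c * u + 2) ^ 2 := by
      rcases Nat.eq_zero_or_pos u with rfl | hu
      · simp
      · nlinarith [Nat.mul_le_mul_right u hcu, Nat.mul_le_mul hcu hcu]
    calc ((c + 1) * u + 2) ^ 2 ≤ (u + 1) * (c * u + 2) ^ 2 := h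
      _ ≤ (u + 1) * (4 * (u + 1) ^ c) := Nat.mul_le_mul_left _ ih
      _ = 4 * (u + 1) ^ (c + 1) := by ring

/-- `2r ≤ c (w - 1)` with `w ^ c ≤ n`. -/
theorem sq_le_of_family {c w r n : ℕ} (hc : 2 ≤ c) (hw : 1 ≤ w) (hr : 2 * r ≤ c * (w - 1))
    (hn : w ^ c ≤ n) : (r + 1) ^ 2 ≤ n := by
  obtain ⟨u, rfl⟩ : ∃ u, w = u + 1 := ⟨w - 1, by omega⟩
  rw [Nat.add_sub_cancel] at hr
  have h := @orbit_count_bound u c hc
  have h2 : (2 * (r + 1)) ^ 2 ≤ (c * u + 2) ^ 2 := Nat.pow_le_pow_left (by omega) 2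
  have : (2 * (r + 1)) ^ 2 = 4 * (r + 1) ^ 2 := by ring
  omega

theorem sq_le_of_lt {w r n : ℕ} (hr : r ≤ w - 1) (hw : 1 ≤ w) (hn : w ^ 2 ≤ n) :
    (r + 1) ^ 2 ≤ n := le_trans (Nat.pow_le_pow_left (by omega) 2) hn

theorem real_bound {r n : ℕ} (h : (r + 1) ^ 2 ≤ n) : (r : ℝ) ≤ Real.sqrt n - 1 := by
  rw [le_sub_iff_add_le]
  apply Real.le_sqrt_of_sq_le
  exact_mod_cast h

end Cfsg.Agent.Derange
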