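import Cfsg.Agent.Derange.Arith
import Cfsg.Agent.H68.DerangementSubgroup

/-!
# Transitive groups with a transitive normal subgroup outside which every element fixes one point
-/

set_option autoImplicit false

namespace Cfsg.Agent.Derange

open MulAction Subgroup

variable {G Ω : Type*} [Group G] [Finite G] [MulAction G Ω] [Finite Ω]

/-- `D` is a transitive normal subgroup outside which every element fixes exactly one point. -/
structure Setting (D : Subgroup G) (Ω : Type*) [MulAction G Ω] : Prop where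
  normal : D.Normal
  trans : ∀ a b : Ω, ∃ d ∈ D, d • a = b
  exists_fix : ∀ g ∉ D, ∃ ω : Ω, g • ω = ω
  unique_fix : ∀ g ∉ D, ∀ ω ω' : Ω, g • ω = ω → g • ω' = ω' → ω = ω'

theorem setting_derSub [Nonempty Ω] (htrans : IsPretransitive G Ω) :
    Setting (H68.derSub G Ω) Ω := by
  obtain ⟨hDt, hout⟩ := H68.derSub_spec htrans
  refine ⟨H68.derSub_normal, fun a b => ?_, fun g hg => ?_, fun g hg ω ω' h h' => ?_⟩
  · obtain ⟨d, hd⟩ := hDt.exists_smul_eq a b
    exact ⟨d, d.2, hd⟩
  · obtain ⟨ω⟩ := (Nat.card_eq_one_iff_unique.1 (hout g hg)).2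
    exact ⟨ω, ω.2⟩
  · exact congrArg Subtype.val
      ((Nat.card_eq_one_iff_unique.1 (hout g hg)).1.elim (⟨ω, h⟩ : fixedBy Ω g) ⟨ω', h'⟩)

variable {D : Subgroup G}

omit [Finite Ω] in
theorem relIndex_eq_index (hn : D.Normal) {L : Subgroup G} (hL : D ⊔ L = ⊤) :
    D.relIndex L = D.index := by
  have := hn
  have h := Subgroup.relIndex_sup_right (K := D) (H := L)
  rw [sup_comm, hL, Subgroup.relIndex_top_right] at h
  exact h.symm

omit [Finite Ω] in
theorem sup_eq_top_of_relIndex (hn : D.Normal) {L : Subgroup G} (hL : D.relIndex L = D.index) :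
    D ⊔ L = ⊤ := by
  have := hn
  rw [← Subgroup.index_eq_one]
  have h := Subgroup.relIndex_mul_index (le_sup_left : D ≤ D ⊔ L)
  rw [sup_comm D L, Subgroup.relIndex_sup_right, hL] at h
  have h2 : D.index * 1 = D.index * (L ⊔ D).index := by rw [mul_one, h]
  rw [sup_comm]
  exact (Nat.eq_of_mul_eq_mul_left (Nat.pos_of_ne_zero Subgroup.index_ne_zero_of_finite) h2).symm

omit [Finite Ω] in
theorem exists_notMem_of_index (hn : D.Normal) {L : Subgroup G} (hL : D ⊔ L = ⊤)
    (hr : 2 ≤ D.index) : ∃ y ∈ L, y ∉ D := by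
  by_contra hno
  push Not at hno
  rw [sup_eq_left.2 hno] at hL
  rw [hL, Subgroup.index_top] at hr
  omega

namespace Setting

variable (h : Setting D Ω)
include h

omit [Finite Ω] in
/-- Orbits of a stabilizer subgroup covering `G / D` have length a multiple of the index. -/
theorem orbit_card {L : Subgroup G} {a y : Ω} (hLa : L ≤ stabilizer G a) (hL : D ⊔ L = ⊤)
    (hy : y ≠ a) :
    (orbit L y).ncard = D.index * (L ⊓ stabilizer G y).relIndex (L ⊓ D) := by
  have hle : L ⊓ stabilizer G y ≤ L ⊓ D := fun g hg => ⟨hg.1, by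
    by_contra hgD
    exact hy (h.unique_fix g hgD y a hg.2 (hLa hg.1))⟩
  rw [← index_stabilizer]
  have h1 : (stabilizer L y).index = (L ⊓ stabilizer G y).relIndex L := by
    rw [inf_relIndex_left]
    rfl
  rw [h1, ← relIndex_mul_relIndex _ _ L hle inf_le_left, inf_relIndex_left,
    relIndex_eq_index h.normal hL, mul_comm]

omit [Finite Ω] in
theorem index_dvd_card [Finite Ω] {L : Subgroup G} {a : Ω} (hLa : L ≤ stabilizer G a) (hL : D ⊔ L = ⊤)
    (s : Set Ω) (ha : a ∉ s) (hinv : ∀ g ∈ L, ∀ y ∈ s, g • y ∈ s) : D.index ∣ s.ncard := by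
  refine Cfsg.Agent.H33.dvd_card_of_orbits (G := L) s (Set.toFinite _)
    (fun g y hy => hinv g g.2 y hy) fun y hy => ?_
  rw [h.orbit_card hLa hL (fun e => ha (by rw [← e]; exact hy))]
  exact dvd_mul_right _ _

omit [Finite Ω] in
theorem index_dvd_sub_one [Finite Ω] (a : Ω) : D.index ∣ Nat.card Ω - 1 := by
  have hsup : D ⊔ stabilizer G a = ⊤ := by
    refine eq_top_iff.2 fun g _ => ?_
    obtain ⟨d, hd, hda⟩ := h.trans a (g • a)
    rw [show g = d * (d⁻¹ * g) by group]
    refine mul_mem (mem_sup_left hd) (mem_sup_right ?_)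
    show (d⁻¹ * g) • a = a
    rw [mul_smul, ← hda, inv_smul_smul]
  have := h.index_dvd_card le_rfl hsup ({a}ᶜ : Set Ω) (by simp) (fun g hg y hy e => hy (by
    rw [Set.mem_singleton_iff] at e ⊢
    exact smul_left_cancel g (e.trans (mem_stabilizer_iff.1 hg).symm)))
  rwa [Set.ncard_compl, Set.ncard_singleton] at this

/-- Elements outside `D` of a covering subgroup fix points of one orbit, whose stabilizer covers. -/
theorem fixed_point_orbit {Y : Subgroup G} (hY : D ⊔ Y = ⊤) {y : G}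
    (hy : y ∈ Y) (hyD : y ∉ D) {γ : Ω} (hγ : y • γ = γ) :
    D ⊔ (Y ⊓ stabilizer G γ) = ⊤ ∧
      ∀ y' ∈ Y, y' ∉ D → ∀ γ' : Ω, y' • γ' = γ' → γ' ∈ orbit Y γ := by
  classical
  have := Fintype.ofFinite G
  have := Fintype.ofFinite Ω
  have := h.normal
  let S : Ω → Finset G := fun ω => Finset.univ.filter fun g => g ∈ Y ∧ g ∉ D ∧ g • ω = ω
  let T : Ω → Finset G := fun γ => (Finset.univ.filter fun ω => ω ∈ orbit Y γ).biUnion S
  let U : Finset G := Finset.univ.filter fun g => g ∈ Y ∧ g ∉ D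
  have hTU : ∀ γ, T γ ⊆ U := by
    intro γ g hg
    simp only [T, Finset.mem_biUnion, S, Finset.mem_filter, Finset.mem_univ, true_and] at hg
    obtain ⟨ω, -, h1, h2, -⟩ := hg
    exact Finset.mem_filter.2 ⟨Finset.mem_univ _, h1, h2⟩
  have hpart : ∀ (A B : Subgroup G),
      (Finset.univ.filter fun g => g ∈ A ∧ g ∉ B).card + Nat.card (A ⊓ B : Subgroup G) =
        Nat.card A := by
    intro A B
    have e1 : Nat.card A = (Finset.univ.filter fun g => g ∈ A).card := by
      rw [Nat.card_eq_fintype_card, Fintype.card_subtype]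
    have e2 : Nat.card (A ⊓ B : Subgroup G) =
        (Finset.univ.filter fun g => g ∈ A ∧ g ∈ B).card := by
      rw [Nat.card_eq_fintype_card, Fintype.card_subtype]
      simp only [Subgroup.mem_inf]
    rw [e1, e2, ← Finset.card_union_of_disjoint (Finset.disjoint_left.2 fun g h1 h2 =>
      (Finset.mem_filter.1 h1).2.2 (Finset.mem_filter.1 h2).2.2)]
    congr 1
    ext g
    simp only [Finset.mem_union, Finset.mem_filter, Finset.mem_univ, true_and]
    tauto
  have hS : ∀ γ : Ω, (S γ).card + Nat.card ((Y ⊓ stabilizer G γ) ⊓ D : Subgroup G) =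
      Nat.card (Y ⊓ stabilizer G γ : Subgroup G) := by
    intro γ
    rw [← hpart (Y ⊓ stabilizer G γ) D]
    congr 2
    ext g
    simp only [S, Finset.mem_filter, Finset.mem_univ, true_and, Subgroup.mem_inf, mem_stabilizer_iff]
    tauto
  have hTcard : ∀ γ, (T γ).card = (orbit Y γ).ncard * (S γ).card := by
    intro γ
    rw [Finset.card_biUnion, Finset.sum_const_nat (m := (S γ).card),
      Set.ncard_eq_toFinset_card']
    · congr 1
      refine congrArg Finset.card (Finset.ext fun ω => ?_)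
      simp
    · intro ω hω
      obtain ⟨⟨l, hl⟩, rfl⟩ := (Finset.mem_filter.1 hω).2
      refine Finset.card_equiv (MulAut.conj l⁻¹).toEquiv fun g => ?_
      simp only [S, Finset.mem_filter, Finset.mem_univ, true_and, MulEquiv.toEquiv_eq_coe,
        EquivLike.coe_coe, MulAut.conj_apply, inv_inv]
      have hD : g ∈ D ↔ l⁻¹ * g * l ∈ D := ⟨fun hg => by
        simpa using ‹D.Normal›.conj_mem g hg l⁻¹, fun hg => by
        simpa [mul_assoc] using ‹D.Normal›.conj_mem _ hg l⟩
      have hYm : g ∈ Y ↔ l⁻¹ * g * l ∈ Y := ⟨fun hg => mul_mem (mul_mem (inv_mem hl) hg) hl,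
        fun hg => by simpa [mul_assoc] using mul_mem (mul_mem hl hg) (inv_mem hl)⟩
      have hfix : g • (⟨l, hl⟩ : Y) • γ = (⟨l, hl⟩ : Y) • γ ↔ (l⁻¹ * g * l) • γ = γ := by
        show g • l • γ = l • γ ↔ _
        rw [mul_smul, mul_smul, inv_smul_eq_iff]
      rw [← hD, ← hYm, hfix]
    · intro ω _ ω' _ hne
      refine Finset.disjoint_left.2 fun g h1 h2 => hne ?_
      exact h.unique_fix g (Finset.mem_filter.1 h1).2.2.1 ω ω' (Finset.mem_filter.1 h1).2.2.2
        (Finset.mem_filter.1 h2).2.2.2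
  have horb : ∀ γ : Ω, (orbit Y γ).ncard * Nat.card (Y ⊓ stabilizer G γ : Subgroup G) =
      Nat.card Y := by
    intro γ
    rw [← index_stabilizer, ← Subgroup.index_mul_card (stabilizer Y γ)]
    congr 1
    refine (Nat.card_congr ?_)
    exact
      { toFun := fun g => ⟨⟨g.1, g.2.1⟩, g.2.2⟩
        invFun := fun g => ⟨((g : Y) : G), (g : Y).2, g.2⟩
        left_inv := fun g => rfl
        right_inv := fun g => rfl }
  have hhalf : ∀ (γ : Ω) (y : G), y ∈ Y → y ∉ D → y • γ = γ → Nat.card Y ≤ 2 * (T γ).card := by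
    intro γ y hy hyD hγ
    have h1 : 2 ≤ D.relIndex (Y ⊓ stabilizer G γ) := by
      have : D.relIndex (Y ⊓ stabilizer G γ) ≠ 1 := fun e => hyD (relIndex_eq_one.1 e ⟨hy, hγ⟩)
      have : D.relIndex (Y ⊓ stabilizer G γ) ≠ 0 := Subgroup.index_ne_zero_of_finite
      omega
    set B := Y ⊓ stabilizer G γ with hB
    have h2 : D.relIndex B * Nat.card (B ⊓ D : Subgroup G) = Nat.card B := by
      rw [← Subgroup.index_mul_card (D.subgroupOf B),
        Nat.card_congr (Subgroup.subgroupOfEquivOfLe (inf_le_left : B ⊓ D ≤ B)).symm.toEquiv,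
        Subgroup.inf_subgroupOf_left]
      rfl
    have h3 : 2 * Nat.card (B ⊓ D : Subgroup G) ≤ Nat.card B := h2 ▸ Nat.mul_le_mul_right _ h1
    have h4 := hS γ
    rw [← hB] at h4
    rw [← horb γ, hTcard, ← hB, ← mul_assoc, mul_comm 2, mul_assoc]
    exact Nat.mul_le_mul_left _ (by omega)
  have hU : U.card + Nat.card (Y ⊓ D : Subgroup G) = Nat.card Y := hpart Y D
  have hUpos : 0 < Nat.card (Y ⊓ D : Subgroup G) := Nat.card_pos
  have hall : ∀ y' ∈ Y, y' ∉ D → ∀ γ' : Ω, y' • γ' = γ' → γ' ∈ orbit Y γ := by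
    intro y' hy' hy'D γ' hγ'
    by_contra hne
    have hdisj : Disjoint (T γ) (T γ') := by
      refine Finset.disjoint_left.2 fun g h1 h2 => hne ?_
      simp only [T, Finset.mem_biUnion, S, Finset.mem_filter, Finset.mem_univ, true_and] at h1 h2
      obtain ⟨ω, hω, -, hgD, hgω⟩ := h1
      obtain ⟨ω', hω', -, -, hgω'⟩ := h2
      rw [← h.unique_fix g hgD ω ω' hgω hgω'] at hω'
      rw [← orbit_eq_iff.2 hω, orbit_eq_iff.2 hω']
      exact mem_orbit_self γ'
    have := Finset.card_le_card (Finset.union_subset (hTU γ) (hTU γ'))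
    rw [Finset.card_union_of_disjoint hdisj] at this
    have := hhalf γ y hy hyD hγ
    have := hhalf γ' y' hy' hy'D hγ'
    omega
  refine ⟨sup_eq_top_of_relIndex h.normal ?_, hall⟩
  have hTeq : T γ = U := by
    refine Finset.Subset.antisymm (hTU γ) fun g hg => ?_
    obtain ⟨hgY, hgD⟩ := (Finset.mem_filter.1 hg).2
    obtain ⟨ω, hω⟩ := h.exists_fix g hgD
    simp only [T, Finset.mem_biUnion, S, Finset.mem_filter, Finset.mem_univ, true_and]
    exact ⟨ω, hall g hgY hgD ω hω, hgY, hgD, hω⟩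
  set B := Y ⊓ stabilizer G γ with hB
  have h1 : D.relIndex B * Nat.card (B ⊓ D : Subgroup G) = Nat.card B := by
    rw [← Subgroup.index_mul_card (D.subgroupOf B),
      Nat.card_congr (Subgroup.subgroupOfEquivOfLe (inf_le_left : B ⊓ D ≤ B)).symm.toEquiv,
      Subgroup.inf_subgroupOf_left]
    rfl
  have h2 : D.relIndex Y * Nat.card (Y ⊓ D : Subgroup G) = Nat.card Y := by
    rw [← Subgroup.index_mul_card (D.subgroupOf Y),
      Nat.card_congr (Subgroup.subgroupOfEquivOfLe (inf_le_left : Y ⊓ D ≤ Y)).symm.toEquiv,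
      Subgroup.inf_subgroupOf_left]
    rfl
  have h3 := hTcard γ
  rw [hTeq] at h3
  have h4 := hS γ
  rw [← hB] at h4
  have h5 := horb γ
  rw [← hB] at h5
  set c := (orbit Y γ).ncard with hc
  have h6 : Nat.card (Y ⊓ D : Subgroup G) = c * Nat.card (B ⊓ D : Subgroup G) := by
    rw [← h4, Nat.mul_add, ← h3] at h5
    omega
  rw [← relIndex_eq_index h.normal hY]
  refine Nat.eq_of_mul_eq_mul_right hUpos ?_
  rw [h2, h6, ← mul_assoc, mul_comm _ c, mul_assoc, h1, h5]

end Setting

end Cfsg.Agent.Derange
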