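import Mathlib

/-!
# Fixed points of coprime operators on an abelian subgroup
-/

set_option autoImplicit false

namespace Cfsg.Agent.Derange

open Subgroup

variable {G : Type*} [Group G] [Finite G]

/-- Elements of `P` commuting with all of `B`. -/
abbrev fixIn (P B : Subgroup G) : Subgroup G := P ⊓ centralizer (B : Set G)

omit [Finite G] in
theorem mem_fixIn {P B : Subgroup G} {x : G} : x ∈ fixIn P B ↔ x ∈ P ∧ ∀ b ∈ B, b * x = x * b :=
  ⟨fun h => ⟨h.1, mem_centralizer_iff.1 h.2⟩, fun h => ⟨h.1, mem_centralizer_iff.2 h.2⟩⟩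

omit [Finite G] in
theorem mem_fixIn_conj {P B : Subgroup G} {x : G} (h : x ∈ fixIn P B) {b : G} (hb : b ∈ B) :
    b * x * b⁻¹ = x := by rw [(mem_fixIn.1 h).2 b hb, mul_inv_cancel_right]

/-- Independent fixed point subgroups of commuting operator groups. -/
theorem card_family_le {P : Subgroup G} (hcomm : ∀ x ∈ P, ∀ y ∈ P, x * y = y * x)
    {ι : Type*} [Finite ι] (B : ι → Subgroup G)
    (hBP : ∀ i, B i ≤ normalizer (P : Set G))
    (hBB : ∀ i j, ∀ b ∈ B i, ∀ b' ∈ B j, b * b' = b' * b)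
    (hdis : ∀ i j, i ≠ j → fixIn P (B i) ⊓ fixIn P (B j) = ⊥)
    (hcop : ∀ i, (Nat.card P).Coprime (Nat.card (B i))) {w : ℕ}
    (hw : ∀ i, w ≤ Nat.card (fixIn P (B i))) :
    w ^ Nat.card ι ≤ Nat.card P := by
  classical
  have := Fintype.ofFinite ι
  letI : CommGroup ↥P :=
    { (inferInstance : Group ↥P) with mul_comm := fun a b => Subtype.ext (hcomm _ a.2 _ b.2) }
  have hmemc : ∀ (i : ι) (b : G), b ∈ B i → ∀ x : ↥P, b * (x : G) * b⁻¹ ∈ P := fun i b hb x =>
    (mem_normalizer_iff.1 (hBP i hb) x).1 x.2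
  let cj : ∀ i, ↥(B i) → (↥P →* ↥P) := fun i b =>
    { toFun := fun x => ⟨(b : G) * x * (b : G)⁻¹, hmemc i b b.2 x⟩
      map_one' := Subtype.ext (by simp)
      map_mul' := fun x y => Subtype.ext (by simp [mul_assoc]) }
  have : ∀ i, Fintype ↥(B i) := fun i => Fintype.ofFinite _
  let av : ι → (↥P →* ↥P) := fun i =>
    ∏ b : ↥(B i), cj i b
  let f : (∀ i, ↥(fixIn P (B i))) → ↥P := fun x => ∏ i, (⟨(x i : G), (x i).2.1⟩ : ↥P)
  have hfixed : ∀ (i : ι) (x : ↥P) (c : G) (hc : c ∈ B i),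
      cj i ⟨c, hc⟩ (av i x) = av i x := by
    intro i x c hc
    simp only [av, MonoidHom.finset_prod_apply, map_prod]
    refine Fintype.prod_equiv (Equiv.mulLeft (⟨c, hc⟩ : ↥(B i))) _ _ fun b => ?_
    refine Subtype.ext ?_
    show c * ((b : G) * (x : G) * (b : G)⁻¹) * c⁻¹ = (c * b) * (x : G) * (c * b)⁻¹
    group
  have hval : ∀ (i j : ι) (y : ↥(fixIn P (B j))), av i ⟨(y : G), y.2.1⟩ =
      if i = j then (⟨(y : G), y.2.1⟩ : ↥P) ^ Nat.card (B i) else 1 := by
    intro i j y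
    split_ifs with h
    · subst h
      simp only [av, MonoidHom.finset_prod_apply]
      rw [Finset.prod_congr rfl (g := fun _ => (⟨(y : G), y.2.1⟩ : ↥P)) (fun b _ => Subtype.ext
        (mem_fixIn_conj y.2 b.2)), Finset.prod_const, Finset.card_univ, Nat.card_eq_fintype_card]
    · have hin : ∀ b : ↥(B i), ((cj i b ⟨(y : G), y.2.1⟩ : ↥P) : G) ∈ fixIn P (B j) := by
        intro b
        refine mem_fixIn.2 ⟨Subtype.coe_prop _, fun b' hb' => ?_⟩
        show b' * ((b : G) * y * (b : G)⁻¹) = (b : G) * y * (b : G)⁻¹ * b'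
        have h1 := hBB i j b b.2 b' hb'
        have h2 : (b : G)⁻¹ * b' = b' * (b : G)⁻¹ :=
          (Commute.inv_left (show Commute (b : G) b' from h1)).eq
        calc b' * ((b : G) * y * (b : G)⁻¹) = (b' * (b : G)) * y * (b : G)⁻¹ := by group
          _ = ((b : G) * b') * y * (b : G)⁻¹ := by rw [h1]
          _ = (b : G) * (b' * y) * (b : G)⁻¹ := by group
          _ = (b : G) * (y * b') * (b : G)⁻¹ := by rw [(mem_fixIn.1 y.2).2 b' hb']
          _ = (b : G) * y * (b' * (b : G)⁻¹) := by group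
          _ = (b : G) * y * ((b : G)⁻¹ * b') := by rw [h2]
          _ = (b : G) * y * (b : G)⁻¹ * b' := by group
      have hj : ((av i ⟨(y : G), y.2.1⟩ : ↥P) : G) ∈ fixIn P (B j) := by
        simp only [av, MonoidHom.finset_prod_apply]
        exact Finset.prod_induction _ (fun z : ↥P => (z : G) ∈ fixIn P (B j))
          (fun a b ha hb => by simpa using mul_mem ha hb) (by simp) (fun b _ => hin b)
      have hi : ((av i ⟨(y : G), y.2.1⟩ : ↥P) : G) ∈ fixIn P (B i) := by
        refine mem_fixIn.2 ⟨Subtype.coe_prop _, fun c hc => ?_⟩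
        have h1 : c * ((av i ⟨(y : G), y.2.1⟩ : ↥P) : G) * c⁻¹ = (av i ⟨(y : G), y.2.1⟩ : ↥P) :=
          congrArg Subtype.val (hfixed i ⟨(y : G), y.2.1⟩ c hc)
        exact mul_inv_eq_iff_eq_mul.1 h1
      have h0 := Subgroup.mem_inf.2 ⟨hi, hj⟩
      rw [hdis i j h, mem_bot] at h0
      exact Subtype.ext h0
  have hinj : Function.Injective f := by
    intro x y hxy
    funext i
    have key : ∀ z : (∀ i, ↥(fixIn P (B i))),
        av i (f z) = (⟨(z i : G), (z i).2.1⟩ : ↥P) ^ Nat.card (B i) := by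
      intro z
      simp only [f, map_prod]
      rw [Finset.prod_congr rfl (fun j _ => hval i j (z j)), Finset.prod_ite_eq,
        if_pos (Finset.mem_univ i)]
    have h1 := congrArg (av i) hxy
    rw [key, key] at h1
    have h2 := (powCoprime (hcop i)).injective h1
    exact Subtype.ext (congrArg Subtype.val h2 :)
  calc w ^ Nat.card ι = ∏ _i : ι, w := by simp [Nat.card_eq_fintype_card]
    _ ≤ ∏ i, Nat.card (fixIn P (B i)) := Finset.prod_le_prod' fun i _ => hw i
    _ = Nat.card (∀ i, ↥(fixIn P (B i))) := Nat.card_pi.symm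
    _ ≤ Nat.card P := Nat.card_le_card_of_injective f hinj

/-- Two commuting independent operators of the same prime order do not all act freely. -/
theorem exists_fixed_of_pair {P : Subgroup G} (hcomm : ∀ x ∈ P, ∀ y ∈ P, x * y = y * x)
    {p q : ℕ} (hP : P ≠ ⊥) (hexp : ∀ x ∈ P, x ^ p = 1) [hq : Fact q.Prime] (hpq : p.Coprime q)
    {a b : G} (haP : a ∈ normalizer (P : Set G)) (hbP : b ∈ normalizer (P : Set G))
    (hab : Commute a b) (ha : a ^ q = 1) (hb : b ^ q = 1) :
    (∃ y ∈ P, y ≠ 1 ∧ Commute b y) ∨ ∃ i : ℕ, ∃ y ∈ P, y ≠ 1 ∧ Commute (a * b ^ i) y := by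
  classical
  letI : CommGroup ↥P :=
    { (inferInstance : Group ↥P) with mul_comm := fun x y => Subtype.ext (hcomm _ x.2 _ y.2) }
  by_contra hno
  push Not at hno
  obtain ⟨hnb, hna⟩ := hno
  let cj : ↥(normalizer (P : Set G)) → (↥P →* ↥P) := fun g =>
    { toFun := fun x => ⟨(g : G) * x * (g : G)⁻¹, (mem_normalizer_iff.1 g.2 x).1 x.2⟩
      map_one' := Subtype.ext (by simp)
      map_mul' := fun x y => Subtype.ext (by simp [mul_assoc]) }
  have hmul : ∀ g h x, cj (g * h) x = cj g (cj h x) := fun g h x => Subtype.ext (by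
    show ((g * h : ↥(normalizer (P : Set G))) : G) * x * ((g * h : ↥(normalizer (P : Set G))) : G)⁻¹ = _
    simp [cj, mul_assoc])
  have hone : ∀ x, cj 1 x = x := fun x => Subtype.ext (by simp [cj])
  -- free elements of order q have trivial norm
  have hnorm : ∀ g : ↥(normalizer (P : Set G)), g ^ q = 1 →
      (∀ y ∈ P, y ≠ 1 → ¬ Commute (g : G) y) → ∀ x, ∏ k : ZMod q, cj (g ^ k.val) x = 1 := by
    intro g hg hfree x
    set y := ∏ k : ZMod q, cj (g ^ k.val) x with hy
    have h1 : cj g y = y := by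
      rw [hy, map_prod]
      refine Fintype.prod_equiv (Equiv.addRight (1 : ZMod q)) _ _ fun k => ?_
      rw [← hmul, ← pow_succ']
      congr 2
      rw [Equiv.coe_addRight, ZMod.val_add, ZMod.val_one q, pow_eq_pow_mod (k.val + 1) hg]
    by_contra hne
    exact hfree (y : G) y.2 (fun e => hne (Subtype.ext e))
      (show (g : G) * y = y * g from mul_inv_eq_iff_eq_mul.1 (congrArg Subtype.val h1))
  let A : ↥(normalizer (P : Set G)) := ⟨a, haP⟩
  let B : ↥(normalizer (P : Set G)) := ⟨b, hbP⟩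
  have hA : A ^ q = 1 := Subtype.ext (by simpa using ha)
  have hB : B ^ q = 1 := Subtype.ext (by simpa using hb)
  have hAB : Commute A B := Subtype.ext hab.eq
  have hbot : ∀ x : ↥P, x = 1 := by
    intro x
    have h1 : ∏ i : ZMod q, ∏ j : ZMod q, cj ((A * B ^ i.val) ^ j.val) x = 1 := by
      refine Finset.prod_eq_one fun i _ => hnorm _ ?_ (fun y hy hy1 => ?_) x
      · rw [(hAB.pow_right _).mul_pow, hA, one_mul, ← pow_mul, mul_comm, pow_mul, hB, one_pow]
      · simpa [A, B] using hna i.val y hy hy1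
    have h2 : ∏ i : ZMod q, ∏ j : ZMod q, cj ((A * B ^ i.val) ^ j.val) x = x ^ q := by
      rw [Finset.prod_comm, ← Finset.mul_prod_erase _ _ (Finset.mem_univ (0 : ZMod q))]
      have h0 : ∏ i : ZMod q, cj ((A * B ^ i.val) ^ (0 : ZMod q).val) x = x ^ q := by
        simp [ZMod.val_zero, hone, Finset.prod_const, Finset.card_univ]
      rw [h0, Finset.prod_eq_one, mul_one]
      intro j hj
      have hj0 : j ≠ 0 := (Finset.mem_erase.1 hj).1
      have h3 : ∀ i : ZMod q, cj ((A * B ^ i.val) ^ j.val) x =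
          cj (A ^ j.val) (cj (B ^ (j * i).val) x) := by
        intro i
        rw [← hmul, (hAB.pow_right _).mul_pow, ← pow_mul, ZMod.val_mul, mul_comm i.val,
          ← pow_eq_pow_mod _ hB]
      rw [Finset.prod_congr rfl fun i _ => h3 i, ← map_prod,
        Fintype.prod_equiv (Equiv.mulLeft₀ j hj0) (fun i => cj (B ^ (j * i).val) x)
          (fun k => cj (B ^ k.val) x) (fun i => rfl),
        hnorm B hB (fun y hy hy1 => hnb y hy hy1) x, map_one]
    have h4 : x ^ q = 1 := h2 ▸ h1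
    refine orderOf_eq_one_iff.1 (Nat.dvd_one.1 ?_)
    rw [← hpq]
    exact Nat.dvd_gcd (orderOf_dvd_of_pow_eq_one (Subtype.ext (by simpa using hexp x x.2)))
      (orderOf_dvd_of_pow_eq_one h4)
  exact hP ((eq_bot_iff_forall _).2 fun x hx => congrArg Subtype.val (hbot ⟨x, hx⟩))

omit [Finite G] in
/-- A free involution inverts. -/
theorem conj_eq_inv_of_free {W : Subgroup G} (hcomm : ∀ x ∈ W, ∀ y ∈ W, x * y = y * x) {u : G}
    (hu : u * u = 1) (hW : ∀ x ∈ W, u * x * u⁻¹ ∈ W)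
    (hfree : ∀ x ∈ W, Commute u x → x = 1) {x : G} (hx : x ∈ W) : u * x * u⁻¹ = x⁻¹ := by
  have hy := hfree (x * (u * x * u⁻¹)) (mul_mem hx (hW x hx)) (by
    have hu' : u⁻¹ = u := inv_eq_of_mul_eq_one_right hu
    have h1 : u * (x * (u * x * u⁻¹)) * u⁻¹ = (u * x * u⁻¹) * x := by
      calc u * (x * (u * x * u⁻¹)) * u⁻¹ = (u * x * u⁻¹) * (u * (u * x * u⁻¹) * u⁻¹) := by group
        _ = (u * x * u⁻¹) * ((u * u) * x * (u⁻¹ * u⁻¹)) := by group
        _ = (u * x * u⁻¹) * x := by rw [hu', hu]; group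
    rw [hcomm _ (hW x hx) x hx] at h1
    exact mul_inv_eq_iff_eq_mul.1 h1)
  exact eq_inv_of_mul_eq_one_right hy

/-- An abelian `q`-group with a unique subgroup of order `q` is cyclic. -/
theorem isCyclic_of_unique {q : ℕ} [hq : Fact q.Prime] {A : Subgroup G} (hA : IsPGroup q A)
    (hcomm : ∀ x ∈ A, ∀ y ∈ A, x * y = y * x)
    (huniq : ∀ x ∈ A, ∀ y ∈ A, x ^ q = 1 → x ≠ 1 → y ^ q = 1 → y ∈ zpowers x) :
    ∃ h ∈ A, A = zpowers h := by
  classical
  obtain ⟨h, hh, hmax⟩ := Set.exists_max_image (A : Set G) orderOf (Set.toFinite _) ⟨1, one_mem A⟩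
  refine ⟨h, hh, le_antisymm (fun x hx => ?_) ((zpowers_le).2 hh)⟩
  have hord : ∀ y ∈ A, ∃ k, orderOf y = q ^ k := fun y hy => by
    obtain ⟨k, hk⟩ := IsPGroup.iff_orderOf.1 hA ⟨y, hy⟩
    exact ⟨k, by rw [← hk, Subgroup.orderOf_mk]⟩
  obtain ⟨k, hk⟩ := hord x hx
  induction k generalizing x with
  | zero => rw [pow_zero, orderOf_eq_one_iff] at hk; exact hk ▸ one_mem _
  | succ k ih =>
    have hxq : orderOf (x ^ q) = q ^ k := by
      rw [orderOf_pow_of_dvd hq.out.ne_zero (hk ▸ dvd_pow_self q (by omega)), hk, pow_succ,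
        Nat.mul_div_cancel _ hq.out.pos]
    obtain ⟨j, hj⟩ := mem_zpowers_iff.1 (ih (x ^ q) (pow_mem hx q) hxq)
    obtain ⟨l, hl⟩ := hord h hh
    have hmx := hmax x hx
    rw [hk, hl] at hmx
    have hkl : k + 1 ≤ l := (Nat.pow_le_pow_iff_right hq.out.one_lt).1 hmx
    have hjq : (q : ℤ) ∣ j := by
      have h1 : (h ^ j) ^ (q ^ k) = 1 := by rw [hj, ← hxq, pow_orderOf_eq_one]
      rw [← zpow_natCast, ← zpow_mul] at h1
      have h2 := (orderOf_dvd_iff_zpow_eq_one).2 h1
      rw [hl] at h2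
      push_cast at h2
      have h3 : (q : ℤ) ^ (k + 1) ∣ j * (q : ℤ) ^ k :=
        dvd_trans (pow_dvd_pow _ hkl) h2
      rw [pow_succ'] at h3
      exact Int.dvd_of_mul_dvd_mul_right (pow_ne_zero _ (Nat.cast_ne_zero.2 hq.out.ne_zero)) h3
    obtain ⟨i, rfl⟩ := hjq
    set y := x * (h ^ i)⁻¹ with hydef
    have hy : y ∈ A := mul_mem hx (inv_mem (zpow_mem hh i))
    have hyq : y ^ q = 1 := by
      rw [hydef, Commute.mul_pow (hcomm x hx _ (inv_mem (zpow_mem hh i))), ← hj, inv_pow,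
        ← zpow_natCast (h ^ i), ← zpow_mul, mul_comm i, mul_inv_cancel]
    have hl0 : 1 ≤ l := by omega
    set c := h ^ q ^ (l - 1) with hc
    have hcord : orderOf c = q := by
      rw [hc, orderOf_pow_of_dvd (pow_ne_zero _ hq.out.ne_zero) (hl ▸ pow_dvd_pow q (Nat.sub_le l 1)),
        hl, Nat.pow_div (Nat.sub_le l 1) hq.out.pos, show l - (l - 1) = 1 by omega, pow_one]
    have h3 := huniq c (pow_mem hh _) y hy (hcord ▸ pow_orderOf_eq_one c)
      (fun e => hq.out.ne_one (by rw [← hcord, e, orderOf_one])) hyq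
    have : y ∈ zpowers h := zpowers_le.2 (pow_mem (mem_zpowers h) _) h3
    rw [show x = y * h ^ i by rw [hydef, inv_mul_cancel_right]]
    exact mul_mem this (zpow_mem (mem_zpowers h) i)

end Cfsg.Agent.Derange
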