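import Cfsg.Agent.Derange.Arith
import Cfsg.Agent.Derange.Fixed

/-!
# Operators with a fixed point: the reducible configuration
-/

set_option autoImplicit false

namespace Cfsg.Agent.Derange

open Subgroup

variable {G : Type*} [Group G] [Finite G]

/-- The set `{f l | l ∈ L}` bounds the index of the fibre subgroup. -/
theorem relIndex_le_ncard {L S : Subgroup G} {β : Type*} (f : G → β) (T : Set β) (hT : T.Finite)
    (hmaps : ∀ l ∈ L, f l ∈ T) (hfib : ∀ l ∈ L, ∀ l' ∈ L, f l = f l' → l⁻¹ * l' ∈ S) :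
    S.relIndex L ≤ T.ncard := by
  rw [Subgroup.relIndex, Subgroup.index, ← Nat.card_coe_set_eq]
  have := hT.to_subtype
  refine Nat.card_le_card_of_injective (fun q : ↥L ⧸ S.subgroupOf L =>
    (⟨f (q.out : ↥L), hmaps _ (q.out : ↥L).2⟩ : T)) fun q q' h => ?_
  rw [← QuotientGroup.out_eq' q, ← QuotientGroup.out_eq' q']
  refine QuotientGroup.eq.2 (mem_subgroupOf.2 ?_)
  exact hfib _ q.out.2 _ q'.out.2 (congrArg Subtype.val h)

/-- A `q`-group `Q` of operators on the elementary abelian `p`-group `P`, normalized by `L`. -/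
structure OpData (p q a r : ℕ) (P Q L M : Subgroup G) : Prop where
  hp : p.Prime
  hq : q.Prime
  hpq : p ≠ q
  hcomm : ∀ x ∈ P, ∀ y ∈ P, x * y = y * x
  hexp : ∀ x ∈ P, x ^ p = 1
  hcard : Nat.card P = p ^ a
  hPne : P ≠ ⊥
  hLP : L ≤ normalizer (P : Set G)
  hQM : Q ≤ M
  hML : M ≤ L
  hr : M.relIndex L = r
  hout : ∀ l ∈ L, l ∉ M → ∀ y ∈ P, y ≠ 1 → ¬ Commute l y
  hQ : IsPGroup q Q
  hLQ : ∀ l ∈ L, ∀ x ∈ Q, l * x * l⁻¹ ∈ Q
  hfaith : ∀ x ∈ Q, (∀ y ∈ P, Commute x y) → x = 1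
  hirr : ∀ W ≤ P, (∀ l ∈ L, ∀ x ∈ W, l * x * l⁻¹ ∈ W) → W = ⊥ ∨ W = P

variable {p q a r : ℕ} {P Q L M : Subgroup G}

omit [Finite G] in
theorem OpData.hQL (h : OpData p q a r P Q L M) : Q ≤ L := le_trans h.hQM h.hML

theorem OpData.coprime (h : OpData p q a r P Q L M) {B : Subgroup G} (hB : B ≤ Q) :
    (Nat.card P).Coprime (Nat.card B) := by
  have := Fact.mk h.hq
  obtain ⟨n, hn⟩ := IsPGroup.iff_card.1 (h.hQ.to_le hB)
  rw [h.hcard, hn]
  exact Nat.Coprime.pow _ _ ((Nat.coprime_primes h.hp h.hq).2 h.hpq)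

omit [Finite G] in
/-- The fixed points of a conjugate. -/
theorem OpData.conj_mem_fixIn (h : OpData p q a r P Q L M) {B B' : Subgroup G} {l : G} (hl : l ∈ L)
    (hBB : ∀ b ∈ B', l⁻¹ * b * l ∈ B) {x : G} (hx : x ∈ fixIn P B) : l * x * l⁻¹ ∈ fixIn P B' := by
  refine mem_fixIn.2 ⟨(mem_normalizer_iff.1 (h.hLP hl) x).1 hx.1, fun b hb => ?_⟩
  have h1 := (mem_fixIn.1 hx).2 _ (hBB b hb)
  calc b * (l * x * l⁻¹) = l * ((l⁻¹ * b * l) * x) * l⁻¹ := by group
    _ = l * (x * (l⁻¹ * b * l)) * l⁻¹ := by rw [h1]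
    _ = l * x * l⁻¹ * b := by group

theorem OpData.card_fixIn_conj (h : OpData p q a r P Q L M) {B B' : Subgroup G} {l : G} (hl : l ∈ L)
    (hBB : ∀ b, b ∈ B' ↔ l⁻¹ * b * l ∈ B) :
    Nat.card (fixIn P B') = Nat.card (fixIn P B) := by
  refine le_antisymm ?_ ?_
  · refine Nat.card_le_card_of_injective
      (fun x : ↥(fixIn P B') => (⟨l⁻¹ * x * l⁻¹⁻¹, h.conj_mem_fixIn (inv_mem hl) ?_ x.2⟩ : ↥(fixIn P B)))
      fun x y e => Subtype.ext (by simpa using congrArg Subtype.val e)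
    intro b hb
    rw [hBB]
    simpa [mul_assoc] using hb
  · refine Nat.card_le_card_of_injective
      (fun x : ↥(fixIn P B) => (⟨l * x * l⁻¹, h.conj_mem_fixIn hl (fun b hb => (hBB b).1 hb) x.2⟩ :
        ↥(fixIn P B'))) fun x y e => Subtype.ext (by simpa using congrArg Subtype.val e)

/-- The basic inequality from semiregularity of `L / M`. -/
theorem OpData.index_bound (h : OpData p q a r P Q L M) {S R W : Subgroup G} (hS : S ≤ L)
    (hR : R ≤ M) {v : G} (hvP : v ∈ P) (hv1 : v ≠ 1) (hvW : ∀ l ∈ S, l * v * l⁻¹ ∈ W) :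
    r * (S ⊓ centralizer {v}).relIndex R ≤ S.relIndex L * (Nat.card W - 1) := by
  set N := S ⊓ centralizer {v} with hN
  have hNM : N ≤ M := fun l hl => by
    by_contra hlM
    exact h.hout l (hS hl.1) hlM v hvP hv1 (mem_centralizer_singleton_iff.1 hl.2)
  have h1 : N.relIndex S ≤ Nat.card W - 1 := by
    have h2 : ((W : Set G) \ {1}).ncard = Nat.card W - 1 := by
      rw [Set.ncard_sdiff_singleton_of_mem (one_mem W), ← Nat.card_coe_set_eq]
      rfl
    rw [← h2]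
    refine relIndex_le_ncard (fun l => l * v * l⁻¹) _ (Set.toFinite _)
      (fun l hl => ⟨hvW l hl, fun e => hv1 (by simpa using e)⟩) fun l hl l' hl' e => ?_
    refine ⟨S.mul_mem (S.inv_mem hl) hl', mem_centralizer_singleton_iff.2 ?_⟩
    calc l⁻¹ * l' * v = l⁻¹ * (l' * v * l'⁻¹) * l' := by group
      _ = l⁻¹ * (l * v * l⁻¹) * l' := by rw [← e]
      _ = v * (l⁻¹ * l') := by group
  calc r * N.relIndex R ≤ r * N.relIndex M :=
        Nat.mul_le_mul_left _ (relIndex_le_of_le_right hR Subgroup.index_ne_zero_of_finite)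
    _ = N.relIndex L := by rw [← h.hr, mul_comm, relIndex_mul_relIndex _ _ _ hNM h.hML]
    _ = N.relIndex S * S.relIndex L := (relIndex_mul_relIndex _ _ _ inf_le_left hS).symm
    _ ≤ S.relIndex L * (Nat.card W - 1) := by rw [mul_comm]; exact Nat.mul_le_mul_left _ h1

/-- An abelian normalized subgroup with fixed points forces the bound. -/
theorem OpData.reducible (h : OpData p q a r P Q L M) {A : Subgroup G} (hAQ : A ≤ Q)
    (hAL : ∀ l ∈ L, ∀ x ∈ A, l * x * l⁻¹ ∈ A) (hAc : ∀ x ∈ A, ∀ y ∈ A, x * y = y * x)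
    {t y : G} (ht : t ∈ A) (ht1 : t ≠ 1) (hy : y ∈ P) (hy1 : y ≠ 1) (hty : Commute t y) :
    (r + 1) ^ 2 ≤ p ^ a := by
  classical
  let good : Set (Subgroup G) := {B | B ≤ A ∧ fixIn P B ≠ ⊥}
  have hz : zpowers t ∈ good := by
    refine ⟨zpowers_le.2 ht, fun e => hy1 ?_⟩
    refine mem_bot.1 (e ▸ mem_fixIn.2 ⟨hy, fun b hb => ?_⟩)
    obtain ⟨i, rfl⟩ := mem_zpowers_iff.1 hb
    exact (hty.zpow_left i).eq
  obtain ⟨B, htB, hB⟩ := (Set.toFinite good).exists_le_maximal hz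
  let cB : G → Subgroup G := fun l => B.map (MulAut.conj l).toMonoidHom
  have hmem : ∀ l b, b ∈ cB l ↔ l⁻¹ * b * l ∈ B := by
    intro l b
    simp only [cB, mem_map, MulEquiv.coe_toMonoidHom, MulAut.conj_apply]
    exact ⟨fun ⟨x, hx, e⟩ => by rw [← e]; simpa [mul_assoc] using hx,
      fun hb => ⟨_, hb, by group⟩⟩
  let F : Set (Subgroup G) := cB '' (L : Set G)
  have hFA : ∀ l ∈ L, cB l ≤ A := by
    intro l hl b hb
    have h1 := hAL l hl _ (hB.prop.1 ((hmem l b).1 hb))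
    simpa [mul_assoc] using h1
  have hFmax : ∀ l ∈ L, ∀ B', cB l ≤ B' → B' ∈ good → B' ≤ cB l := by
    intro l hl B' hle hB'
    have hB'' : B'.comap (MulAut.conj l).toMonoidHom ∈ good := by
      refine ⟨fun x hx => ?_, ?_⟩
      · have h1 := hAL _ (inv_mem hl) _ (hB'.1 (mem_comap.1 hx))
        simpa [mul_assoc] using h1
      · obtain ⟨x, hx, hx1⟩ := (Subgroup.bot_or_exists_ne_one _).resolve_left hB'.2
        intro e
        refine hx1 ?_
        have h1 : l⁻¹ * x * l⁻¹⁻¹ ∈ fixIn P (B'.comap (MulAut.conj l).toMonoidHom) := by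
          refine h.conj_mem_fixIn (inv_mem hl) (fun b hb => ?_) hx
          simpa [mem_comap, mul_assoc] using hb
        rw [e, mem_bot, conj_eq_one_iff] at h1
        exact h1
    have h2 := hB.le_of_ge hB'' (fun b hb => mem_comap.2 (hle (mem_map_of_mem _ hb)))
    intro b hb
    rw [hmem]
    exact h2 (mem_comap.2 (by simpa [mul_assoc] using hb))
  let w := Nat.card (fixIn P B)
  have hFfin : F.Finite := Set.toFinite _
  have hpow : w ^ F.ncard ≤ p ^ a := by
    rw [← Nat.card_coe_set_eq, ← h.hcard]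
    have := hFfin.to_subtype
    refine card_family_le h.hcomm (fun i : F => (i : Subgroup G)) ?_ ?_ ?_ ?_ ?_
    · rintro ⟨_, l, hl, rfl⟩
      exact fun b hb => h.hLP (h.hQL (hAQ (hFA l hl hb)))
    · rintro ⟨_, l, hl, rfl⟩ ⟨_, l', hl', rfl⟩ b hb b' hb'
      exact hAc _ (hFA l hl hb) _ (hFA l' hl' hb')
    · rintro ⟨_, l, hl, rfl⟩ ⟨_, l', hl', rfl⟩ hne
      by_contra hbot
      obtain ⟨x, hx, hx1⟩ := (Subgroup.bot_or_exists_ne_one _).resolve_left hbot
      have hsup : cB l ⊔ cB l' ∈ good := by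
        refine ⟨sup_le (hFA l hl) (hFA l' hl'), fun e => hx1 ?_⟩
        rw [← mem_bot, ← e]
        refine ⟨hx.1.1, ?_⟩
        have : cB l ⊔ cB l' ≤ centralizer {x} := sup_le
          (fun b hb => mem_centralizer_singleton_iff.2 ((mem_fixIn.1 hx.1).2 b hb))
          (fun b hb => mem_centralizer_singleton_iff.2 ((mem_fixIn.1 hx.2).2 b hb))
        exact mem_centralizer_iff.2 fun b hb => mem_centralizer_singleton_iff.1 (this hb)
      exact hne (Subtype.ext (le_antisymm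
        (le_trans le_sup_left (hFmax l' hl' _ le_sup_right hsup))
        (le_trans le_sup_right (hFmax l hl _ le_sup_left hsup))))
    · rintro ⟨_, l, hl, rfl⟩
      exact h.coprime (le_trans (hFA l hl) hAQ)
    · rintro ⟨_, l, hl, rfl⟩
      exact le_of_eq (h.card_fixIn_conj hl (hmem l)).symm
  obtain ⟨v, hv, hv1⟩ := (Subgroup.bot_or_exists_ne_one _).resolve_left hB.prop.2
  have hc : 2 ≤ F.ncard := by
    by_contra hlt
    have hle : F.ncard ≤ 1 := by omega
    have hconst : ∀ l ∈ L, cB l = cB 1 := fun l hl =>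
      (Set.ncard_le_one hFfin).1 hle _ ⟨l, hl, rfl⟩ _ ⟨1, one_mem L, rfl⟩
    rcases h.hirr (fixIn P B) inf_le_left (fun l hl x hx => h.conj_mem_fixIn hl (fun b hb => by
        rw [← hmem, hconst l hl, hmem]; simpa using hb) hx) with e | e
    · exact hB.prop.2 e
    · refine ht1 (h.hfaith t (hAQ ht) fun z hz => ?_)
      exact (mem_fixIn.1 (e.symm ▸ hz : z ∈ fixIn P B)).2 t (htB (mem_zpowers t))
  obtain ⟨x, hxA, hxv⟩ : ∃ x ∈ A, ¬ Commute x v := by
    by_contra hno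
    push Not at hno
    rcases h.hirr (fixIn P A) inf_le_left (fun l hl z hz => h.conj_mem_fixIn hl (fun b hb => by
        simpa using hAL _ (inv_mem hl) b hb) hz) with e | e
    · exact hv1 (mem_bot.1 (e ▸ mem_fixIn.2 ⟨hv.1, fun b hb => (hno b hb).eq⟩))
    · refine ht1 (h.hfaith t (hAQ ht) fun z hz => ?_)
      exact (mem_fixIn.1 (e.symm ▸ hz : z ∈ fixIn P A)).2 t ht
  let S := L ⊓ normalizer (B : Set G)
  have h1 := h.index_bound (S := S) (R := zpowers x) (W := fixIn P B) inf_le_left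
    (zpowers_le.2 (h.hQM (hAQ hxA))) hv.1 hv1 (fun l hl => h.conj_mem_fixIn hl.1 (fun b hb => by
      have := (mem_normalizer_iff.1 (inv_mem hl.2) b).1 hb
      simpa using this) hv)
  have h2 : S.relIndex L ≤ F.ncard := by
    refine relIndex_le_ncard cB F hFfin (fun l hl => ⟨l, hl, rfl⟩) fun l hl l' hl' e => ?_
    refine ⟨L.mul_mem (L.inv_mem hl) hl', mem_normalizer_iff.2 fun b => ?_⟩
    have h3 := SetLike.ext_iff.1 e (l' * b * l'⁻¹)
    rw [hmem, hmem] at h3
    simp only [mul_inv_rev, inv_inv, mul_assoc, inv_mul_cancel_left, inv_mul_cancel, mul_one] at h3 ⊢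
    exact h3.symm
  have h3 : 2 ≤ (S ⊓ centralizer {v}).relIndex (zpowers x) := by
    have : (S ⊓ centralizer {v}).relIndex (zpowers x) ≠ 1 := fun e =>
      hxv (mem_centralizer_singleton_iff.1 (relIndex_eq_one.1 e (mem_zpowers x)).2)
    have : (S ⊓ centralizer {v}).relIndex (zpowers x) ≠ 0 := Subgroup.index_ne_zero_of_finite
    omega
  refine sq_le_of_family hc Nat.card_pos ?_ hpow
  calc 2 * r = r * 2 := mul_comm _ _
    _ ≤ r * (S ⊓ centralizer {v}).relIndex (zpowers x) := Nat.mul_le_mul_left _ h3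
    _ ≤ S.relIndex L * (w - 1) := h1
    _ ≤ F.ncard * (w - 1) := Nat.mul_le_mul_right _ h2

end Cfsg.Agent.Derange
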