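import Cfsg.Agent.PGroups.Critical
import Cfsg.Agent.Derange.OpData

/-!
# The critical subgroup of the operator group
-/

set_option autoImplicit false

namespace Cfsg.Agent.Derange

open Subgroup
open scoped commutatorElement

variable {G : Type*} [Group G] [Finite G]

/-- A critical subgroup, seen in the ambient group. -/
theorem exists_critical_in {q : ℕ} [Fact q.Prime] {Q L : Subgroup G} (hQ : IsPGroup q Q)
    (hLQ : ∀ l ∈ L, ∀ x ∈ Q, l * x * l⁻¹ ∈ Q) :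
    ∃ C : Subgroup G, C ≤ Q ∧ (∀ l ∈ L, ∀ x ∈ C, l * x * l⁻¹ ∈ C) ∧
      (∀ x ∈ Q, ∀ c ∈ C, x * c * x⁻¹ * c⁻¹ ∈ fixIn C C) ∧
      (∀ c ∈ C, c ^ q ∈ fixIn C C) ∧
      ∀ x ∈ Q, (∀ c ∈ C, c * x = x * c) → x ∈ C := by
  obtain ⟨H, hHc, hfr, hcomm, hself⟩ := PGroups.exists_critical hQ
  refine ⟨H.map Q.subtype, map_subtype_le H, fun l hl x hx => ?_, ?_, ?_, ?_⟩
  · obtain ⟨h, hh, rfl⟩ := hx
    let φ : ↥Q ≃* ↥Q :=
      { toFun := fun x => ⟨l * (x : G) * l⁻¹, hLQ l hl _ x.2⟩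
        invFun := fun x => ⟨l⁻¹ * (x : G) * l⁻¹⁻¹, hLQ _ (inv_mem hl) _ x.2⟩
        left_inv := fun x => Subtype.ext (by simp [mul_assoc])
        right_inv := fun x => Subtype.ext (by simp [mul_assoc])
        map_mul' := fun x y => Subtype.ext (by simp [mul_assoc]) }
    exact ⟨φ h, (PGroups.apply_mem_iff_of_characteristic hHc φ).2 hh, rfl⟩
  · rintro x hx _ ⟨c, hc, rfl⟩
    have h1 : ⁅c, (⟨x, hx⟩ : ↥Q)⁆⁻¹ ∈ H ⊓ centralizer (H : Set ↥Q) :=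
      inv_mem (hcomm (commutator_mem_commutator hc (mem_top _)))
    rw [commutatorElement_inv, commutatorElement_def] at h1
    refine mem_fixIn.2 ⟨⟨_, h1.1, by simp⟩, ?_⟩
    rintro _ ⟨d, hd, rfl⟩
    simpa [mul_assoc] using congrArg (Q.subtype) (mem_centralizer_iff.1 h1.2 d hd)
  · rintro _ ⟨c, hc, rfl⟩
    refine mem_fixIn.2 ⟨⟨c ^ q, pow_mem hc q, by simp⟩, ?_⟩
    rintro _ ⟨d, hd, rfl⟩
    have h1 := hfr ⟨(⟨c, hc⟩ : H) ^ q, PGroups.pow_mem_frattini (hQ.to_subgroup H) _, rfl⟩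
    simpa using congrArg (Q.subtype) (mem_centralizer_iff.1 h1 d hd)
  · intro x hx h
    refine ⟨⟨x, hx⟩, hself (mem_centralizer_iff.2 fun d hd => Subtype.ext ?_), rfl⟩
    exact h _ ⟨d, hd, rfl⟩

end Cfsg.Agent.Derange
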