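import Cfsg.Agent.H86.AbelianHomForm
import Cfsg.Agent.H33.PermCharacter

/-!
# A free normalizer of a regular Sylow subgroup controls the point stabilizer
-/

set_option autoImplicit false
set_option linter.unusedSectionVars false
set_option maxHeartbeats 1000000

open scoped ComplexConjugate

namespace Cfsg.Agent.Derange

open CharBasic BlockBasic Subgroup MulAction
open H86.Abelian (FreeFusion)

universe u v

variable {G : Type u} [Group G] [Fintype G] {Ω : Type v} [Fintype Ω] [MulAction G Ω]

variable (G Ω) in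
/-- The permutation character less the trivial one. -/
noncomputable def defChar : G → ℂ := fun g => H33.permChar G Ω g - 1

theorem classInner_defChar (η : G → ℂ) :
    Cfsg.classInner (defChar G Ω) η =
      Cfsg.classInner (H33.permChar G Ω) η - Cfsg.classInner (fun _ => (1 : ℂ)) η :=
  classInner_sub_left (H33.permChar G Ω) (fun _ => 1) η

theorem exists_int_defChar {η : G → ℂ} (hη : Cfsg.IsCharacter G η) :
    ∃ m : ℤ, Cfsg.classInner (defChar G Ω) η = m := by
  obtain ⟨u, hu⟩ := classInner_isChar_nat (H33.isCharacter_permChar (G := G) (Ω := Ω)) hη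
  obtain ⟨v, hv⟩ := classInner_isChar_nat (IsIrr.isCharacter (isIrrCharacter_one (G := G))) hη
  exact ⟨(u : ℤ) - v, by rw [classInner_defChar, hu, hv]; push_cast; rfl⟩

theorem permChar_conj_class (g h : G) : H33.permChar G Ω (h * g * h⁻¹) = H33.permChar G Ω g := by
  rw [← H33.permRep_character]
  exact isClassFunction_character _ g h

theorem isClassFunction_defChar : Cfsg.IsClassFunction G (defChar G Ω) := fun g h => by
  simp only [defChar, permChar_conj_class]

/-- A sum of an invariant function over an invariant set is its fixed part modulo a prime period. -/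
theorem dvd_sum_of_perm {α : Type*} [Fintype α] [DecidableEq α] {s : ℕ} (hs : s.Prime)
    (σ : Equiv.Perm α) (hσ : σ ^ s = 1) (F : α → ℤ) (hF : ∀ x, F (σ x) = F x)
    (hfix : ∀ x, σ x = x → (s : ℤ) ∣ F x) : (s : ℤ) ∣ ∑ x, F x := by
  classical
  have := Fact.mk hs
  rw [← Finset.sum_fiberwise_of_maps_to (g := F) (t := Finset.univ.image F)
    (fun x _ => Finset.mem_image_of_mem F (Finset.mem_univ x))]
  refine Finset.dvd_sum fun v _ => ?_
  rw [Finset.sum_congr rfl fun x hx => (Finset.mem_filter.1 hx).2, Finset.sum_const, nsmul_eq_mul]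
  by_cases hv : ∃ x, σ x = x ∧ F x = v
  · obtain ⟨x, hx, rfl⟩ := hv
    exact dvd_mul_of_dvd_right (hfix x hx) _
  · refine dvd_mul_of_dvd_left (Int.natCast_dvd_natCast.2 ?_) _
    push Not at hv
    let τ : Equiv.Perm {x // F x = v} := σ.subtypePerm (fun x => by rw [hF])
    have hτ : τ ^ s ^ 1 = 1 := by
      rw [pow_one]
      refine Equiv.ext fun x => Subtype.ext ?_
      simp [τ, Equiv.Perm.subtypePerm_pow, hσ]
    rw [show (Finset.univ.filter fun x => F x = v).card = Fintype.card {x // F x = v} from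
      (Fintype.card_subtype _).symm]
    have h := Equiv.Perm.card_compl_support_modEq (p := s) hτ
    have h0 : τ.supportᶜ.card = 0 := by
      rw [Finset.card_eq_zero, Finset.eq_empty_iff_forall_notMem]
      intro x hx
      rw [Finset.mem_compl, Equiv.Perm.notMem_support] at hx
      exact hv x (congrArg Subtype.val hx) x.2
    rw [h0] at h
    exact Nat.modEq_zero_iff_dvd.1 h.symm

variable {p : ℕ} [hp : Fact p.Prime] (P : Sylow p G)

/-- Suppose `P` is abelian, regular and self centralizing, the stabilizer of a point in the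
normalizer acts freely on it and some coprime automorphism forces divisibility; then the orbits
of the stabilizer are those of its intersection with the normalizer. -/
theorem orbits_eq [hab : IsMulCommutative (P : Subgroup G)] [IsPretransitive G Ω] (a : Ω)
    (hreg : Function.Bijective fun u : (P : Subgroup G) => (u : G) • a)
    (hself : centralizer ((P : Subgroup G) : Set G) ≤ P)
    (hfree : ∀ g ∈ normalizer (P : Set G) ⊓ stabilizer G a, g ≠ 1 → ∀ y ∈ (P : Subgroup G),
      y ≠ 1 → ¬ Commute g y)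
    (ht : Nat.card (normalizer (P : Set G) ⊓ stabilizer G a : Subgroup G) + 1 < Fintype.card Ω)
    (σ : G ≃* G) (hσP : ∀ x, x ∈ (P : Subgroup G) ↔ σ x ∈ (P : Subgroup G))
    (hσπ : ∀ g, H33.permChar G Ω (σ g) = H33.permChar G Ω g)
    {s : ℕ} (hs : s.Prime) (hσs : ∀ (η : IrrCharacter G) (g : G),
      (η : G → ℂ) ((σ : G → G)^[s] g) = (η : G → ℂ) g)
    (hdiv : ∀ η : IrrCharacter G, H83.irrComp σ η = η →
      ∃ c : ℤ, Cfsg.classInner (defChar G Ω) (η : G → ℂ) = ((s : ℤ) * c : ℤ)) :
    ∀ k : G, k • a = a → ∀ ω : Ω,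
      ∃ g ∈ normalizer (P : Set G) ⊓ stabilizer G a, g • ω = k • ω := by
  classical
  haveI : Fintype (P : Subgroup G) := Fintype.ofFinite _
  haveI : Fintype (normalizer (P : Set G)) := Fintype.ofFinite _
  obtain ⟨M, hM⟩ := exists_isPModular hp.out
  set K1 := normalizer (P : Set G) ⊓ stabilizer G a with hK1
  set e := Nat.card K1 with he
  have hPcard : Nat.card (P : Subgroup G) = Fintype.card Ω := by
    rw [← Nat.card_eq_fintype_card]; exact Nat.card_congr (Equiv.ofBijective _ hreg)
  have hfix : FreeFusion P := by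
    intro g hg x hx hx1 hgx
    obtain ⟨u, hu⟩ := hreg.2 (g • a)
    have hk : (u : G)⁻¹ * g ∈ K1 :=
      ⟨(normalizer (P : Set G)).mul_mem (le_normalizer (inv_mem u.2)) hg, by
        show ((u : G)⁻¹ * g) • a = a
        rw [mul_smul, inv_smul_eq_iff]; exact hu.symm⟩
    have hcomm : Commute ((u : G)⁻¹ * g) x :=
      (show Commute (u : G) x from H86.Abelian.mul_comm_sylow P u.2 hx).inv_left.mul_left
        (mul_inv_eq_iff_eq_mul.1 hgx)
    have h1 : (u : G)⁻¹ * g = 1 := by_contra fun hne => hfree _ hk hne x hx hx1 hcomm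
    rw [inv_mul_eq_one] at h1
    refine mem_centralizer_iff.2 fun y hy => ?_
    rw [← h1]
    exact H86.Abelian.mul_comm_sylow P hy u.2
  have hrel : (centralizer ((P : Subgroup G) : Set G)).relIndex (normalizer (P : Set G)) = e := by
    have hC : centralizer ((P : Subgroup G) : Set G) = (P : Subgroup G) := le_antisymm hself
      fun x hx => mem_centralizer_iff.2 fun y hy => H86.Abelian.mul_comm_sylow P hy hx
    rw [hC]
    have h1 : Nat.card (normalizer (P : Set G)) = Nat.card (P : Subgroup G) * e := by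
      rw [he, ← Nat.card_prod]
      refine (Nat.card_congr (Equiv.ofBijective (fun x : ↥(P : Subgroup G) × ↥K1 =>
        (⟨(x.1 : G) * (x.2 : G), (normalizer (P : Set G)).mul_mem (le_normalizer x.1.2) x.2.2.1⟩ :
          normalizer (P : Set G))) ⟨?_, ?_⟩)).symm
      · rintro ⟨u, g⟩ ⟨u', g'⟩ e'
        have e'' : (u : G) * g = u' * g' := congrArg Subtype.val e'
        have hu : u = u' := hreg.1 (by
          show (u : G) • a = (u' : G) • a
          calc (u : G) • a = (u : G) • (g : G) • a := by rw [mem_stabilizer_iff.1 g.2.2]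
            _ = (u' : G) • (g' : G) • a := by rw [smul_smul, smul_smul, e'']
            _ = (u' : G) • a := by rw [mem_stabilizer_iff.1 g'.2.2])
        subst hu
        exact Prod.ext rfl (Subtype.ext (mul_left_cancel e''))
      · rintro ⟨g, hg⟩
        obtain ⟨u, hu⟩ := hreg.2 (g • a)
        exact ⟨(u, ⟨(u : G)⁻¹ * g, (normalizer (P : Set G)).mul_mem (le_normalizer (inv_mem u.2)) hg,
          by show ((u : G)⁻¹ * g) • a = a; rw [mul_smul, inv_smul_eq_iff]; exact hu.symm⟩),
          Subtype.ext (mul_inv_cancel_left _ _)⟩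
    have h2 : Nat.card (normalizer (P : Set G)) =
        Nat.card (P : Subgroup G) * (P : Subgroup G).relIndex (normalizer (P : Set G)) := by
      rw [← relIndex_bot_left (P : Subgroup G), ← relIndex_bot_left (normalizer (P : Set G)),
        relIndex_mul_relIndex ⊥ (P : Subgroup G) (normalizer (P : Set G)) bot_le le_normalizer]
    exact Nat.eq_of_mul_eq_mul_left Nat.card_pos (h2.symm.trans h1)
  obtain ⟨Y, ζ, δ, d, av, hδ, hYB, h1Y, hav1, hζY, hYζ, hζeq, hYcard, hval, hX, hnorm, hYreg, hXreg⟩ :=
    H86.Abelian.exists_exceptional P hM hfix (by rw [hrel, hPcard]; exact ht)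
  rw [hrel] at hYcard hnorm
  set t := Y.card with htdef
  -- singular elements
  have hsing : ∀ g : G, p ∣ orderOf g → H33.permChar G Ω g = 0 := by
    intro g hg
    have hempty : IsEmpty (fixedBy Ω g) := by
      refine ⟨fun ⟨ω, hω⟩ => ?_⟩
      set v := g ^ (orderOf g / p) with hv
      have hvo : orderOf v = p := by
        rw [hv, orderOf_pow_of_dvd (Nat.div_pos (Nat.le_of_dvd (orderOf_pos g) hg)
          hp.out.pos).ne' (Nat.div_dvd_of_dvd hg), Nat.div_div_self hg (orderOf_pos g).ne']
      obtain ⟨Q, hQ⟩ := (IsPGroup.of_card (G := zpowers v) (n := 1)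
        (by rw [Nat.card_zpowers, hvo, pow_one])).exists_le_sylow
      obtain ⟨c, hc⟩ := MulAction.exists_smul_eq G Q P
      have hmem : c * v * c⁻¹ ∈ (P : Subgroup G) := by
        rw [← hc]
        exact Fusion.mem_sylow_smul.2 (by
          rw [show c⁻¹ * (c * v * c⁻¹) * c = v by group]; exact hQ (mem_zpowers _))
      have hvω : v • ω = ω := by
        have : g ∈ stabilizer G ω := hω
        exact pow_mem this _
      obtain ⟨w, hw⟩ := hreg.2 (c • ω)
      replace hw : (w : G) • a = c • ω := hw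
      have h1 : (c * v * c⁻¹) • (w : G) • a = (w : G) • a := by
        rw [hw, mul_smul, inv_smul_smul, mul_smul, hvω]
      rw [smul_smul, ← H86.Abelian.mul_comm_sylow P w.2 hmem, mul_smul, smul_left_cancel_iff] at h1
      have h2 : (⟨_, hmem⟩ : (P : Subgroup G)) = 1 := hreg.1 (by
        show (c * v * c⁻¹) • a = ((1 : (P : Subgroup G)) : G) • a
        rw [h1, Subgroup.coe_one, one_smul])
      have h3 : v = 1 := conj_eq_one_iff.1 (congrArg Subtype.val h2)
      rw [h3, orderOf_one] at hvo
      exact hp.out.ne_one hvo.symm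
    simp [H33.permChar]
  have hsection : ∀ g : G, p ∣ orderOf g → ∃ y : (P : Subgroup G), y ≠ 1 ∧
      ∀ θ : IrrCharacter G, θ ∈ principalBlock M G → (θ : G → ℂ) g = (θ : G → ℂ) y := by
    intro g hg
    obtain ⟨j, hj⟩ := exists_orderOf_pPart (p := p) g
    obtain ⟨Q, hQ⟩ := (IsPGroup.of_card (G := zpowers (pPart (p := p) g)) (n := j)
      (by rw [Nat.card_zpowers, hj])).exists_le_sylow
    obtain ⟨c, hc⟩ := MulAction.exists_smul_eq G Q P
    have hmem : c * pPart (p := p) g * c⁻¹ ∈ (P : Subgroup G) := by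
      rw [← hc]
      exact Fusion.mem_sylow_smul.2 (by
        rw [show c⁻¹ * (c * pPart (p := p) g * c⁻¹) * c = pPart (p := p) g by group]
        exact hQ (mem_zpowers _))
    have hne : c * pPart (p := p) g * c⁻¹ ≠ 1 := fun e' =>
      (pPart_eq_one_iff g).1 (conj_eq_one_iff.1 e') hg
    refine ⟨⟨_, hmem⟩, fun e' => hne (congrArg Subtype.val e'), fun θ hθ => ?_⟩
    rw [← IsIrr.isClassFunction θ.2 g c]
    refine H86.Abelian.apply_eq_of_isPPart P hM hfix hθ ?_ hmem hne
    refine ⟨c * pReg (p := p) g * c⁻¹, ?_, ?_, ?_, ?_⟩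
    · conv_rhs => rw [← pPart_mul_pReg (p := p) g]
      group
    · exact Commute.map (commute_pPart_pReg g) (MulAut.conj c).toMonoidHom
    · exact ⟨j, ((MulAut.conj c).orderOf_eq _).trans hj⟩
    · rw [← MulAut.conj_apply, MulEquiv.orderOf_eq]; exact not_dvd_orderOf_pReg g
  have hXsing : ∀ η ∈ principalBlock M G, η ∉ Y → ∀ g : G, p ∣ orderOf g →
      (η : G → ℂ) g = av η := by
    intro η hη hηY g hg
    obtain ⟨y, hy, hθ⟩ := hsection g hg
    rw [hθ η hη]; exact (hX η hη hηY).2 y hy
  -- multiplicities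
  have hint : ∀ η : IrrCharacter G, ∃ m : ℤ, Cfsg.classInner (defChar G Ω) (η : G → ℂ) = m :=
    fun η => exists_int_defChar (IsIrr.isCharacter η.2)
  choose m hm using hint
  have hdef_sing : ∀ g : G, p ∣ orderOf g → defChar G Ω g = -1 := fun g hg => by
    simp [defChar, hsing g hg]
  have hθ1 : ∀ θ ∈ Y, Cfsg.classInner (θ : G → ℂ) (fun _ => (1 : ℂ)) = 0 := fun θ hθ =>
    classInner_irr_of_ne θ.2 isIrrCharacter_one (fun e' => h1Y (by
      rwa [show (trivialIrr : IrrCharacter G) = θ from Subtype.ext e'.symm]))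
  have hmeq : ∀ θ ∈ Y, ∀ θ' ∈ Y, m θ = m θ' := by
    intro θ hθ θ' hθ'
    have h1 : Cfsg.classInner ((θ : G → ℂ) - (θ' : G → ℂ)) (defChar G Ω) =
        -Cfsg.classInner ((θ : G → ℂ) - (θ' : G → ℂ)) (fun _ => (1 : ℂ)) := by
      rw [classInner_def, classInner_def, ← mul_neg, ← Finset.sum_neg_distrib]
      congr 1
      refine Finset.sum_congr rfl fun g _ => ?_
      by_cases hg : p ∣ orderOf g
      · rw [hdef_sing g hg]; simp
      · simp [hYreg θ hθ θ' hθ' g hg]
    rw [classInner_sub_left, classInner_sub_left, hθ1 θ hθ, hθ1 θ' hθ', sub_zero, neg_zero,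
      sub_eq_zero, ← classInner_conj_symm (defChar G Ω), ← classInner_conj_symm (defChar G Ω) θ',
      hm, hm, map_intCast, map_intCast] at h1
    exact_mod_cast h1
  have ht0 : 0 < t := by
    rcases Nat.eq_zero_or_pos t with e' | e'
    · rw [e', zero_mul, hPcard] at hYcard; omega
    · exact e'
  obtain ⟨θ₀, hθ₀⟩ := Finset.card_pos.1 ht0
  set m₀ := m θ₀ with hm₀
  let X : Finset (IrrCharacter G) :=
    Finset.univ.filter fun η => η ∈ principalBlock M G ∧ η ∉ Y
  -- the key identity
  have hkey : ((t : ℤ) * d - δ) * m₀ + ∑ η ∈ X, av η * m η = -1 := by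
    set A : ℂ := (t : ℂ) * d - δ with hA
    let Φ : G → ℂ := fun g => A * ∑ θ ∈ Y, (θ : G → ℂ) g + (t : ℂ) * ∑ η ∈ X, (av η : ℂ) * (η : G → ℂ) g
    have hΦreg : ∀ g : G, ¬ p ∣ orderOf g → Φ g = 0 := by
      intro g hg
      have h1 := hXreg θ₀ hθ₀ g hg
      rw [← Finset.sum_filter] at h1
      simp only [Φ]
      rw [Finset.sum_congr rfl (fun θ hθ => hYreg θ hθ θ₀ hθ₀ g hg), Finset.sum_const, nsmul_eq_mul,
        ← htdef, hA]
      push_cast at h1
      linear_combination (t : ℂ) * h1
    have hΦsing : ∀ g : G, p ∣ orderOf g → Φ g = (Fintype.card Ω : ℂ) := by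
      intro g hg
      obtain ⟨y, hy, hθ⟩ := hsection g hg
      have hY' : ∑ θ ∈ Y, (θ : G → ℂ) g = A := by
        rw [Finset.sum_congr rfl fun θ hθY => hθ θ (hYB θ hθY)]
        let T := Finset.univ.filter fun b : IrrCharacter (P : Subgroup G) => b ≠ H86.Abelian.triv P
        have hfib : ∀ θ ∈ Y, (θ : G → ℂ) y = d + δ *
            ∑ b' ∈ T.filter (fun b' => ζ b' = θ), (b' : ↥(P : Subgroup G) → ℂ) y := by
          intro θ hθY
          obtain ⟨b, hb, rfl⟩ := hYζ θ hθY
          rw [hval b hb y hy]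
          congr 2
          refine Finset.sum_congr (Finset.ext fun b' => ?_) fun _ _ => rfl
          constructor
          · intro hb'
            have hb'T : b' ≠ H86.Abelian.triv P := by
              obtain ⟨n, rfl⟩ := (H86.Abelian.mem_orb P).1 hb'
              exact H86.Abelian.actIrr_ne_triv P hb n
            exact Finset.mem_filter.2 ⟨Finset.mem_filter.2 ⟨Finset.mem_univ _, hb'T⟩,
              (hζeq b b' hb hb'T).2 hb'⟩
          · intro hb'
            obtain ⟨h1, h2⟩ := Finset.mem_filter.1 hb'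
            exact (hζeq b b' hb (Finset.mem_filter.1 h1).2).1 h2
        rw [Finset.sum_congr rfl hfib, Finset.sum_add_distrib, Finset.sum_const, nsmul_eq_mul,
          ← Finset.mul_sum, Finset.sum_fiberwise_of_maps_to
            (fun b hb => hζY b (Finset.mem_filter.1 hb).2), hA, ← htdef,
          Finset.filter_ne',
          Finset.sum_erase_eq_sub (Finset.mem_univ _), H86.Abelian.sum_irr_apply P hy,
          H86.Abelian.triv_apply]
        ring
      have hX' : ∑ η ∈ X, (av η : ℂ) * (η : G → ℂ) g = ∑ η ∈ X, (av η : ℂ) ^ 2 :=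
        Finset.sum_congr rfl fun η hη => by
          obtain ⟨h1, h2⟩ := (Finset.mem_filter.1 hη).2
          rw [hXsing η h1 h2 g hg, sq]
      simp only [Φ]
      rw [hY', hX']
      have hn' : (∑ η ∈ X, (av η : ℂ) ^ 2) =
          (e : ℂ) + 1 - ((d : ℂ) - δ) ^ 2 - ((t : ℂ) - 1) * (d : ℂ) ^ 2 := by
        have h := congrArg (Int.cast (R := ℂ)) hnorm
        rw [← Finset.sum_filter] at h
        push_cast at h
        linear_combination h
      have hn2 : (t : ℂ) * e + 1 = (Fintype.card Ω : ℂ) := by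
        have h := hYcard.trans hPcard
        exact_mod_cast h
      have hd2 : (δ : ℂ) ^ 2 = 1 := by rcases hδ with e' | e' <;> simp [e']
      rw [hn', ← hn2, hA]
      linear_combination (1 - (t : ℂ)) * hd2
    have h1 : Cfsg.classInner Φ (defChar G Ω) = -Cfsg.classInner Φ (fun _ => (1 : ℂ)) := by
      rw [classInner_def, classInner_def, ← mul_neg, ← Finset.sum_neg_distrib]
      congr 1
      refine Finset.sum_congr rfl fun g _ => ?_
      by_cases hg : p ∣ orderOf g
      · rw [hdef_sing g hg]; simp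
      · simp [hΦreg g hg]
    have hexp : ∀ ψ : G → ℂ, Cfsg.classInner Φ ψ =
        A * ∑ θ ∈ Y, Cfsg.classInner (θ : G → ℂ) ψ +
          (t : ℂ) * ∑ η ∈ X, (av η : ℂ) * Cfsg.classInner (η : G → ℂ) ψ := by
      intro ψ
      have : Φ = A • (∑ θ ∈ Y, (θ : G → ℂ)) + (t : ℂ) • (∑ η ∈ X, (av η : ℂ) • (η : G → ℂ)) := by
        funext g
        simp [Φ, Finset.sum_apply, Pi.smul_apply]
      rw [this, classInner_add_left, classInner_smul_left, classInner_smul_left, classInner_sum_left,
        classInner_sum_left]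
      simp only [classInner_smul_left]
    have h2 : Cfsg.classInner Φ (fun _ => (1 : ℂ)) = t := by
      rw [hexp, Finset.sum_eq_zero hθ1, mul_zero, zero_add, Finset.sum_eq_single trivialIrr]
      · rw [hav1]
        show (t : ℂ) * ((1 : ℤ) * Cfsg.classInner (fun _ : G => (1 : ℂ)) (fun _ => 1)) = t
        rw [classInner_irr_self isIrrCharacter_one, Int.cast_one, mul_one, mul_one]
      · intro η _ hne
        rw [classInner_irr_of_ne η.2 isIrrCharacter_one (fun e' => hne (Subtype.ext e')), mul_zero]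
      · intro hno
        exact absurd (Finset.mem_filter.2 ⟨Finset.mem_univ _, sameBlock_refl hM _, h1Y⟩) hno
    have hconj : ∀ η : IrrCharacter G,
        Cfsg.classInner (η : G → ℂ) (defChar G Ω) = (m η : ℂ) := fun η => by
      rw [← classInner_conj_symm (defChar G Ω), hm, map_intCast]
    rw [h2, hexp, Finset.sum_congr rfl fun θ hθ =>
      (hconj θ).trans (congrArg Int.cast (hmeq θ hθ θ₀ hθ₀)), Finset.sum_const, nsmul_eq_mul,
      Finset.sum_congr rfl fun η _ => congrArg ((av η : ℂ) * ·) (hconj η), ← htdef] at h1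
    apply Int.cast_injective (α := ℂ)
    push_cast
    refine mul_left_cancel₀ (Nat.cast_ne_zero.2 ht0.ne' : (t : ℂ) ≠ 0) ?_
    linear_combination h1
  -- the automorphism permutes `X`
  have hnotY : ∀ η ∈ principalBlock M G, η ∉ Y → ∀ η' : IrrCharacter G, η' = H83.irrComp σ η →
      η' ∈ principalBlock M G ∧ η' ∉ Y ∧ av η' = av η := by
    rintro η hη hηY _ rfl
    have hB := H83.irrComp_mem_principalBlock σ hη
    have hconst : ∀ y : (P : Subgroup G), y ≠ 1 →
        (H83.irrComp σ η : G → ℂ) y = (av η : ℂ) := by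
      intro y hy
      rw [H83.irrComp_apply]
      exact (hX η hη hηY).2 ⟨σ y, (hσP _).1 y.2⟩ fun e' => hy (Subtype.ext (σ.injective (by
        rw [Subgroup.coe_one, map_one]; exact congrArg Subtype.val e')))
    have hnY : H83.irrComp σ η ∉ Y := by
      intro hY'
      obtain ⟨b, hb, hbe⟩ := hYζ _ hY'
      set f : ↥(P : Subgroup G) → ℂ := fun y =>
        ∑ b' ∈ H86.Abelian.orb P b, (b' : ↥(P : Subgroup G) → ℂ) y with hf
      set κ : ℂ := (δ : ℂ) * ((av η : ℂ) - d) with hκ
      have hf1 : ∀ y : (P : Subgroup G), y ≠ 1 → f y = κ := by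
        intro y hy
        have h1 := hconst y hy
        rw [← hbe, hval b hb y hy] at h1
        have hd2 : (δ : ℂ) ^ 2 = 1 := by rcases hδ with e' | e' <;> simp [e']
        rw [hκ]
        linear_combination (δ : ℂ) * h1 - f y * hd2
      have hf0 : f 1 = e := by
        rw [hf]
        simp only [H86.Abelian.lin P, Finset.sum_const, nsmul_eq_mul, mul_one]
        rw [H86.Abelian.card_orb P hfix hb, hrel]
      have hf' : f = ∑ b' ∈ H86.Abelian.orb P b, (b' : ↥(P : Subgroup G) → ℂ) := by
        funext y; simp [hf, Finset.sum_apply]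
      -- the inner product with the trivial character vanishes
      have h0 : Cfsg.classInner f (H86.Abelian.triv P : ↥(P : Subgroup G) → ℂ) = 0 := by
        rw [hf', classInner_sum_left]
        refine Finset.sum_eq_zero fun b' hb' => ?_
        obtain ⟨n, rfl⟩ := (H86.Abelian.mem_orb P).1 hb'
        rw [classInner_irrCharacter, if_neg (H86.Abelian.actIrr_ne_triv P hb n)]
      have h1 : Cfsg.classInner f (b : ↥(P : Subgroup G) → ℂ) = 1 := by
        rw [hf', classInner_sum_left]
        simp only [classInner_irrCharacter]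
        rw [Finset.sum_ite_eq', if_pos (H86.Abelian.self_mem_orb P b)]
      have hsplit : ∀ b' : IrrCharacter (P : Subgroup G), Cfsg.classInner f (b' : ↥(P : Subgroup G) → ℂ) =
          κ * Cfsg.classInner (H86.Abelian.triv P : ↥(P : Subgroup G) → ℂ) (b' : ↥(P : Subgroup G) → ℂ)
            + (Nat.card (P : Subgroup G) : ℂ)⁻¹ * ((e : ℂ) - κ) := by
        intro b'
        rw [classInner_def, classInner_def, mul_left_comm, ← mul_add]
        congr 1
        rw [Finset.mul_sum, ← sub_eq_iff_eq_add', ← Finset.sum_sub_distrib, Finset.sum_eq_single (1 : (P : Subgroup G))]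
        · rw [hf0, H86.Abelian.triv_apply, H86.Abelian.lin P, map_one]; ring
        · intro y _ hy
          rw [hf1 y hy, H86.Abelian.triv_apply]; ring
        · intro hno; exact absurd (Finset.mem_univ _) hno
      rw [hsplit, classInner_irrCharacter, if_pos rfl] at h0
      rw [hsplit, classInner_irrCharacter, if_neg (fun e' => hb e'.symm), mul_zero, zero_add] at h1
      rw [h1, mul_one] at h0
      have hκe : κ = -1 := eq_neg_of_add_eq_zero_left h0
      rw [hκe] at h1
      have hne : (Nat.card (P : Subgroup G) : ℂ) ≠ 0 := Nat.cast_ne_zero.2 Nat.card_pos.ne'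
      rw [inv_mul_eq_iff_eq_mul₀ hne, mul_one, sub_neg_eq_add] at h1
      have : e + 1 = Nat.card (P : Subgroup G) := by exact_mod_cast h1
      rw [hPcard] at this
      omega
    refine ⟨hB, hnY, ?_⟩
    obtain ⟨y, hy⟩ : ∃ y : (P : Subgroup G), y ≠ 1 := by
      have : Nontrivial (P : Subgroup G) := by
        rw [← Finite.one_lt_card_iff_nontrivial, hPcard]; omega
      exact exists_ne 1
    have h1 := (hX _ hB hnY).2 y hy
    rw [hconst y hy] at h1
    exact_mod_cast h1.symm
  have hmσ : ∀ η : IrrCharacter G, m (H83.irrComp σ η) = m η := by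
    intro η
    have h1 : Cfsg.classInner (defChar G Ω) (H83.irrComp σ η : G → ℂ) =
        Cfsg.classInner (defChar G Ω) (η : G → ℂ) := by
      rw [classInner_def, classInner_def]
      congr 1
      refine Fintype.sum_equiv σ.toEquiv _ _ fun g => ?_
      show defChar G Ω g * conj ((η : G → ℂ) (σ g)) = defChar G Ω (σ g) * conj ((η : G → ℂ) (σ g))
      simp only [defChar, hσπ]
    rw [hm, hm] at h1
    exact_mod_cast h1
  let τ₀ : IrrCharacter G ≃ IrrCharacter G :=
    { toFun := H83.irrComp σ
      invFun := H83.irrComp σ.symm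
      left_inv := H83.irrComp_symm σ
      right_inv := H83.irrComp_symm' σ }
  have hXmem : ∀ η, η ∈ X ↔ H83.irrComp σ η ∈ X := by
    have hto : ∀ η ∈ X, H83.irrComp σ η ∈ X := fun η hη => by
      obtain ⟨h1, h2⟩ := (Finset.mem_filter.1 hη).2
      obtain ⟨h3, h4, -⟩ := hnotY η h1 h2 _ rfl
      exact Finset.mem_filter.2 ⟨Finset.mem_univ _, h3, h4⟩
    refine fun η => ⟨hto η, fun hη => ?_⟩
    have hsurj : Function.Surjective (fun z : X => (⟨H83.irrComp σ z, hto z z.2⟩ : X)) :=
      Finite.surjective_of_injective fun z z' e' =>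
        Subtype.ext (τ₀.injective (congrArg Subtype.val e'))
    obtain ⟨z, hz⟩ := hsurj ⟨_, hη⟩
    have : (z : IrrCharacter G) = η := τ₀.injective (congrArg Subtype.val hz)
    exact this ▸ z.2
  have hsum : (s : ℤ) ∣ ∑ η ∈ X, av η * m η := by
    rw [← Finset.sum_coe_sort]
    refine dvd_sum_of_perm hs (Equiv.Perm.subtypePerm τ₀ (fun η => (hXmem η).symm)) ?_ _ (fun η => ?_) ?_
    · refine Equiv.ext fun η => Subtype.ext (Subtype.ext (funext fun g => ?_))
      have hit : ∀ (j : ℕ) (η : IrrCharacter G) (g : G),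
          (((τ₀ ^ j) η : IrrCharacter G) : G → ℂ) g = (η : G → ℂ) ((σ : G → G)^[j] g) := by
        intro j
        induction j with
        | zero => intro η g; rfl
        | succ j ih =>
          intro η g
          rw [pow_succ, Equiv.Perm.mul_apply, ih]
          show (η : G → ℂ) (σ ((σ : G → G)^[j] g)) = _
          rw [Function.iterate_succ', Function.comp_apply]
      rw [Equiv.Perm.subtypePerm_pow, Equiv.Perm.subtypePerm_apply, hit, hσs]
      rfl
    · show av (H83.irrComp σ η) * m (H83.irrComp σ η) = av η * m η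
      obtain ⟨h1, h2⟩ := (Finset.mem_filter.1 η.2).2
      rw [hmσ, (hnotY η h1 h2 _ rfl).2.2]
    · intro η hη
      obtain ⟨c, hc⟩ := hdiv η (congrArg Subtype.val hη)
      rw [hm] at hc
      refine dvd_mul_of_dvd_right ?_ _
      rw [show m η = (s : ℤ) * c by exact_mod_cast hc]
      exact dvd_mul_right _ _
  have hm0 : m₀ ≠ 0 := by
    intro h0
    rw [h0, mul_zero, zero_add] at hkey
    rw [hkey] at hsum
    have := Int.le_of_dvd one_pos (dvd_neg.1 hsum)
    have := hs.two_le
    omega
  -- counting orbits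
  have hnormπ : (t : ℝ) + 1 ≤ (Nat.card (orbitRel.Quotient (stabilizer G a) Ω) : ℝ) := by
    have hπ := H33.classInner_permChar_self (G := G) (Ω := Ω) a
    haveI : Nonempty Ω := ⟨a⟩
    have h1 : Cfsg.classInner (defChar G Ω) (defChar G Ω) =
        (Nat.card (orbitRel.Quotient (stabilizer G a) Ω) : ℂ) - 1 := by
      have hd : defChar G Ω = H33.permChar G Ω - (fun _ => (1 : ℂ)) := rfl
      rw [hd, classInner_sub_left, classInner_sub_right, classInner_sub_right, hπ,
        H33.classInner_permChar_one, classInner_irr_self isIrrCharacter_one,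
        ← classInner_conj_symm (H33.permChar G Ω), H33.classInner_permChar_one, map_one]
      ring
    have h2 : Cfsg.classInner (defChar G Ω) (defChar G Ω) =
        ((∑ η : IrrCharacter G, (m η : ℝ) ^ 2 : ℝ) : ℂ) := by
      rw [classInner_eq_sum isClassFunction_defChar]
      push_cast
      refine Finset.sum_congr rfl fun η _ => ?_
      rw [hm, map_intCast]; ring
    have h3 : (∑ η : IrrCharacter G, (m η : ℝ) ^ 2) + 1 =
        (Nat.card (orbitRel.Quotient (stabilizer G a) Ω) : ℝ) := by
      apply Complex.ofReal_injective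
      push_cast at h2 ⊢
      rw [← h2, h1]; ring
    have h4 : (t : ℝ) ≤ ∑ η : IrrCharacter G, (m η : ℝ) ^ 2 := by
      calc (t : ℝ) = ∑ _θ ∈ Y, (1 : ℝ) := by rw [Finset.sum_const, nsmul_eq_mul, mul_one]
        _ ≤ ∑ θ ∈ Y, (m θ : ℝ) ^ 2 := Finset.sum_le_sum fun θ hθ => by
          rw [hmeq θ hθ θ₀ hθ₀, ← hm₀, ← Int.cast_pow]
          exact_mod_cast Int.one_le_abs (pow_ne_zero 2 hm0) |>.trans_eq (abs_of_nonneg (sq_nonneg _))
        _ ≤ _ := Finset.sum_le_univ_sum_of_nonneg fun η => sq_nonneg _
    linarith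
  have hnorm' : t + 1 ≤ Nat.card (orbitRel.Quotient (stabilizer G a) Ω) := by exact_mod_cast hnormπ
  -- orbits of `K1`
  have hK1orb : Nat.card (orbitRel.Quotient K1 Ω) = t + 1 := by
    haveI : Fintype K1 := Fintype.ofFinite _
    have hb := sum_card_fixedBy_eq_card_orbits_mul_card_group K1 Ω
    have hfx : ∀ g : K1, g ≠ 1 → Fintype.card (fixedBy Ω g) = 1 := by
      intro g hg
      refine Fintype.card_eq_one_iff.2 ⟨⟨a, g.2.2⟩, fun ⟨ω, hω⟩ => Subtype.ext ?_⟩
      obtain ⟨u, rfl⟩ := hreg.2 ω
      by_contra hne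
      have hu1 : (u : G) ≠ 1 := fun e' => hne (by show (u : G) • a = a; rw [e', one_smul])
      refine hfree g g.2 (fun e' => hg (Subtype.ext e')) u u.2 hu1 ?_
      have hconj : (g : G) * u * (g : G)⁻¹ ∈ (P : Subgroup G) :=
        (Subgroup.mem_normalizer_iff.1 g.2.1 u).1 u.2
      have h1 : (⟨_, hconj⟩ : (P : Subgroup G)) = u := hreg.1 (by
        show ((g : G) * u * (g : G)⁻¹) • a = (u : G) • a
        rw [mul_smul, inv_smul_eq_iff.2 (mem_stabilizer_iff.1 g.2.2).symm, mul_smul]
        exact hω)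
      exact mul_inv_eq_iff_eq_mul.1 (congrArg Subtype.val h1)
    rw [← Finset.add_sum_erase _ _ (Finset.mem_univ (1 : K1)),
      Finset.sum_congr rfl (fun g hg => hfx g (Finset.mem_erase.1 hg).1), Finset.sum_const,
      smul_eq_mul, mul_one, Finset.card_erase_of_mem (Finset.mem_univ _), Finset.card_univ] at hb
    have h1 : Fintype.card (fixedBy Ω (1 : K1)) = Fintype.card Ω :=
      Fintype.card_congr (Equiv.subtypeUnivEquiv fun ω => one_smul _ ω)
    rw [h1] at hb
    rw [Nat.card_eq_fintype_card]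
    have hK : Fintype.card K1 = e := Nat.card_eq_fintype_card.symm
    rw [hK] at hb
    refine Nat.eq_of_mul_eq_mul_right (Nat.card_pos : 0 < e) ?_
    rw [← hb, add_mul, one_mul, ← he]
    have := hYcard.trans hPcard
    have : 0 < e := Nat.card_pos
    omega
  let π : orbitRel.Quotient K1 Ω → orbitRel.Quotient (stabilizer G a) Ω :=
    Quotient.map' id fun x y hxy => by
      obtain ⟨g, rfl⟩ := hxy
      exact ⟨⟨g, g.2.2⟩, rfl⟩
  have hπs : Function.Surjective π := fun q => Quotient.inductionOn' q fun x => ⟨Quotient.mk'' x, rfl⟩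
  have hbij : Function.Bijective π := (Nat.bijective_iff_surjective_and_card π).2
    ⟨hπs, le_antisymm (hK1orb ▸ hnorm') (Nat.card_le_card_of_surjective π hπs)⟩
  intro k hk ω
  obtain ⟨g, hg⟩ := Quotient.exact' (hbij.1 (a₁ := Quotient.mk'' (k • ω)) (a₂ := Quotient.mk'' ω)
    (Quotient.sound' ⟨⟨k, hk⟩, rfl⟩))
  exact ⟨g, g.2, hg⟩

end Cfsg.Agent.Derange
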