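import Cfsg.Agent.Derange.Regular
import Cfsg.Agent.Derange.Exceptional
import Cfsg.Agent.S0886

/-!
# The free case: the bound or at most one fixed point
-/

set_option autoImplicit false
set_option linter.style.haveILetI false
set_option maxHeartbeats 800000

namespace Cfsg.Agent.Derange

open MulAction Subgroup
open scoped ComplexConjugate

universe u v

variable {G : Type u} {Ω : Type v} [Group G] [Finite G] [MulAction G Ω] [Finite Ω] [FaithfulSMul G Ω]
variable {D P : Subgroup G} {a : Ω} {p k : ℕ}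

/-- An element of a covering subgroup of prime order modulo `D`. -/
theorem exists_prime_mod {L : Subgroup G} (hn : D.Normal) (hL : D ⊔ L = ⊤) (hr : 2 ≤ D.index) :
    ∃ (s : ℕ) (y : G), s.Prime ∧ y ∈ L ∧ y ∉ D ∧ y ^ s ∈ D := by
  classical
  obtain ⟨x, hx, hxD⟩ := exists_notMem_of_index hn hL hr
  have hex : ∃ n, 0 < n ∧ x ^ n ∈ D :=
    ⟨orderOf x, orderOf_pos x, by rw [pow_orderOf_eq_one]; exact one_mem D⟩
  set n := Nat.find hex with hn'
  obtain ⟨hn0, hnD⟩ := Nat.find_spec hex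
  have hn1 : n ≠ 1 := fun e => hxD (by rw [← hn', e, pow_one] at hnD; exact hnD)
  refine ⟨n.minFac, x ^ (n / n.minFac), Nat.minFac_prime hn1, pow_mem hx _, fun hmem => ?_, ?_⟩
  · have hlt : n / n.minFac < n := Nat.div_lt_self hn0 (Nat.minFac_prime hn1).one_lt
    exact Nat.find_min hex hlt ⟨Nat.div_pos (Nat.minFac_le hn0) (Nat.minFac_pos n), hmem⟩
  · rw [← pow_mul, Nat.div_mul_cancel (Nat.minFac_dvd n)]
    exact hnD

omit [FaithfulSMul G Ω] in
/-- Invariant characters of `D` have multiplicity in the deficient permutation character divisible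
by the order of the cyclic extension. -/
theorem dvd_defChar [Fintype Ω] (hset : Setting D Ω) [Fintype D] {s : ℕ} (hs : s.Prime) {y : G}
    (hy : y ∉ D) (hys : y ^ s ∈ D) [D.Normal] (η : Cfsg.IrrCharacter D)
    (hη : H83.irrComp (MulAut.conjNormal y : D ≃* D) η = η) :
    ∃ c : ℤ, Cfsg.classInner (defChar D Ω) (η : D → ℂ) = ((s : ℤ) * c : ℤ) := by
  classical
  set G0 := D ⊔ zpowers y with hG0
  have hDG0 : D ≤ G0 := le_sup_left
  haveI : Fintype G0 := Fintype.ofFinite _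
  set N := D.subgroupOf G0 with hN
  haveI : N.Normal := Subgroup.normal_subgroupOf
  let e : N ≃* D := Subgroup.subgroupOfEquivOfLe hDG0
  let y' : G0 := ⟨y, mem_sup_right (mem_zpowers y)⟩
  have hgen : ∀ q : G0 ⧸ N, q ∈ zpowers (y' : G0 ⧸ N) := by
    intro q
    induction q using QuotientGroup.induction_on with
    | _ g =>
      obtain ⟨d, hd, z, hz, hdz⟩ := Subgroup.mem_sup_of_normal_left.1 g.2
      obtain ⟨i, rfl⟩ := mem_zpowers_iff.1 hz
      refine mem_zpowers_iff.2 ⟨i, ?_⟩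
      rw [← QuotientGroup.mk_zpow]
      refine QuotientGroup.eq.2 (mem_subgroupOf.2 ?_)
      show ((y' : G0) ^ i : G0).1⁻¹ * (g : G) ∈ D
      rw [SubgroupClass.coe_zpow, ← hdz, ← mul_assoc]
      simpa [y'] using ‹D.Normal›.conj_mem d hd (y ^ i)⁻¹
  have hcyc : IsCyclic (G0 ⧸ N) := ⟨⟨(y' : G0 ⧸ N), hgen⟩⟩
  have hindex : N.index = s := by
    rw [Subgroup.index, ← orderOf_eq_card_of_forall_mem_zpowers hgen]
    haveI := Fact.mk hs
    refine orderOf_eq_prime ?_ ?_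
    · rw [← QuotientGroup.mk_pow]
      exact (QuotientGroup.eq_one_iff _).2 (mem_subgroupOf.2 (by simpa [y'] using hys))
    · exact fun e' => hy (mem_subgroupOf.1 ((QuotientGroup.eq_one_iff _).1 e'))
  -- `η` is invariant under `G0`
  let St : Subgroup G :=
    { carrier := {g | ∀ n : D, (η : D → ℂ) (MulAut.conjNormal g n) = (η : D → ℂ) n}
      one_mem' := fun n => by simp
      mul_mem' := fun {g h} hg hh n => by rw [map_mul, MulAut.mul_apply, hg, hh]
      inv_mem' := fun {g} hg n => by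
        have h1 := hg (MulAut.conjNormal g⁻¹ n)
        rw [← MulAut.mul_apply, ← map_mul, mul_inv_cancel, map_one, MulAut.one_apply] at h1
        exact h1.symm }
  have hSt : G0 ≤ St := by
    refine sup_le (fun d hd n => ?_) (zpowers_le.2 fun n => ?_)
    · rw [← CharBasic.IsIrr.isClassFunction η.2 n ⟨d, hd⟩]
      exact congrArg (η : D → ℂ) (Subtype.ext (by simp))
    · exact congrFun (congrArg Subtype.val hη) n
  obtain ⟨ψ, hψ, hψN⟩ := Cfsg.Agent.S0886.result N hcyc (fun n => (η : D → ℂ) (e n))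
    (H86.isIrr_comp_equiv η.2 e) (fun g n => by
      rw [← hSt g.2 (e n)]
      exact congrArg (η : D → ℂ) (Subtype.ext rfl))
  obtain ⟨c, hc⟩ := exists_int_defChar (Ω := Ω) (CharBasic.IsIrr.isCharacter hψ)
  refine ⟨c, ?_⟩
  rw [CharBasic.classInner_def] at hc ⊢
  have hsum : ∑ g : G0, defChar G0 Ω g * conj (ψ g) = ∑ n : D, defChar D Ω n * conj ((η : D → ℂ) n) := by
    haveI : Fintype N := Fintype.ofFinite _
    rw [← Finset.sum_subset (Finset.subset_univ (Finset.univ.filter fun g : G0 => g ∈ N))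
      fun g _ hg => ?_]
    · rw [Finset.sum_subtype (p := (· ∈ N)) _ (fun g => by simp)]
      refine Fintype.sum_equiv e.toEquiv _ _ fun n => ?_
      rw [hψN n]
      rfl
    · rw [Finset.mem_filter, not_and] at hg
      have hgD : (g : G) ∉ D := fun h' => hg (Finset.mem_univ _) (mem_subgroupOf.2 h')
      have h1 : Nat.card (fixedBy Ω g) = 1 := by
        obtain ⟨ω, hω⟩ := hset.exists_fix _ hgD
        exact Nat.card_eq_one_iff_unique.2 ⟨⟨fun x x' => Subtype.ext
          (hset.unique_fix _ hgD _ _ x.2 x'.2)⟩, ⟨⟨ω, hω⟩⟩⟩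
      show (((Nat.card (fixedBy Ω g) : ℕ) : ℂ) - 1) * conj (ψ g) = 0
      rw [h1, Nat.cast_one, sub_self, zero_mul]
  have hcard : Nat.card G0 = s * Nat.card D := by
    rw [← hindex, ← Nat.card_congr e.toEquiv, Subgroup.index_mul_card]
  rw [hsum, hcard] at hc
  push_cast at hc ⊢
  have hs0 : (s : ℂ) ≠ 0 := Nat.cast_ne_zero.2 hs.ne_zero
  rw [← hc, mul_inv, mul_assoc, mul_inv_cancel_left₀ hs0]

namespace RegConf

variable (h : RegConf D P a p k)
include h

/-- In the free case, either the bound holds or nontrivial elements fix at most one point. -/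
theorem bound_or_frobenius (hlog : 15625 * k ^ 24 ≤ p ^ k) :
    (D.index + 1) ^ 2 ≤ Nat.card Ω ∨
      ∀ g : G, g ≠ 1 → ∀ ω ω' : Ω, g • ω = ω → g • ω' = ω' → ω = ω' := by
  classical
  by_contra hcon
  push Not at hcon
  obtain ⟨hlt, g₀, hg₀, ω₁, ω₂, hω₁, hω₂, hω⟩ := hcon
  have hbad : ¬ (D.index + 1) ^ 2 ≤ Nat.card Ω := not_le.2 hlt
  obtain ⟨hcomm, hexp⟩ := h.elementary hbad
  have hn := h.setting.normal
  haveI := Fintype.ofFinite Ω
  haveI : Fintype D := Fintype.ofFinite _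
  haveI := Fact.mk h.hp
  set H1 := normalizer (P : Set G) ⊓ stabilizer G a with hH1
  set K1 := H1 ⊓ D with hK1
  set e := Nat.card K1 with he
  have hfree : ∀ g ∈ K1, g ≠ 1 → ∀ y ∈ P, y ≠ 1 → ¬ Commute g y := fun g hg hg1 y hy hy1 hc =>
    hbad (h.bound_of_not_free hlog hg.2 hg.1.2 hg.1.1 hg1 hy hy1 hc)
  have hconj : ∀ g ∈ H1, ∀ u ∈ P, g * u * g⁻¹ ∈ P := fun g hg u hu =>
    (Subgroup.mem_normalizer_iff.1 hg.1 u).1 hu
  -- `r e ≤ n - 1`
  have hre : D.index * e ≤ Nat.card Ω - 1 := by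
    have hnt : Nontrivial Ω := Finite.one_lt_card_iff_nontrivial.1 (by have := h.hn4; omega)
    obtain ⟨y, hy⟩ := exists_ne a
    have h1 := h.setting.orbit_card (L := H1) inf_le_right h.cover hy
    have h2 : (orbit H1 y).ncard ≤ Nat.card Ω - 1 := by
      rw [← Set.ncard_singleton a, ← Set.ncard_compl]
      refine Set.ncard_le_ncard ?_ (Set.toFinite _)
      rintro z ⟨g, rfl⟩ (hz : (g : G) • y = a)
      exact hy (smul_left_cancel (g : G) (hz.trans (mem_stabilizer_iff.1 g.2.2).symm))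
    have h3 : (H1 ⊓ stabilizer G y).relIndex (H1 ⊓ D) = e := by
      rw [he, hK1, ← inf_relIndex_right, show (H1 ⊓ stabilizer G y) ⊓ (H1 ⊓ D) = ⊥ from
        (eq_bot_iff_forall _).2 fun g hg => ?_, relIndex_bot_left]
      obtain ⟨u, hu, rfl⟩ := h.hPtrans a y
      by_contra hg1
      refine hfree g hg.2 hg1 u hu (fun e' => hy (by rw [e', one_smul])) ?_
      refine mul_inv_eq_iff_eq_mul.1 (h.eq_of_smul (hconj g hg.1.1 u hu) hu a ?_)
      rw [h.conj_smul hg.1.1.2]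
      exact hg.1.2
    rw [h3] at h1
    rwa [h1] at h2
  have hepos : 0 < e := Nat.card_pos
  have ht : e + 1 < Nat.card Ω := by
    have : 2 * e ≤ D.index * e := Nat.mul_le_mul_right _ h.hr
    have := h.hn4
    omega
  -- the orbits of the stabilizer in `D`
  have horbits : ∀ g ∈ D, g • a = a → ∀ ω : Ω, ∃ w ∈ K1, w • ω = g • ω := by
    set P' : Subgroup D := P.subgroupOf D with hP'
    have hmemP' : ∀ x : D, x ∈ P' ↔ (x : G) ∈ P := fun x => Subgroup.mem_subgroupOf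
    let S : Sylow p D := (h.isPGroup.comap_of_injective D.subtype D.subtype_injective).toSylow (by
      show ¬ p ∣ (P.subgroupOf D).index
      rw [← Subgroup.relIndex, h.relIndex_P]; exact h.hcop)
    have hS : ∀ x : D, x ∈ (S : Subgroup D) ↔ (x : G) ∈ P := fun x => Iff.rfl
    haveI : IsMulCommutative (S : Subgroup D) := ⟨⟨fun x y => Subtype.ext (Subtype.ext
      (hcomm _ ((hS _).1 x.2) _ ((hS _).1 y.2)))⟩⟩
    haveI : IsPretransitive D Ω := ⟨fun x y => by
      obtain ⟨d, hd, e'⟩ := h.setting.trans x y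
      exact ⟨⟨d, hd⟩, e'⟩⟩
    have hnorm : ∀ x : D, x ∈ normalizer ((S : Subgroup D) : Set D) ↔ (x : G) ∈ normalizer (P : Set G) := by
      intro x
      constructor
      · intro hx
        refine mem_normalizer_of_conj_le fun u hu => ?_
        exact (hS _).1 ((Subgroup.mem_normalizer_iff.1 hx ⟨u, h.hPD hu⟩).1 ((hS _).2 hu))
      · intro hx
        refine Subgroup.mem_normalizer_iff.2 fun u => ?_
        show u ∈ (S : Subgroup D) ↔ x * u * x⁻¹ ∈ (S : Subgroup D)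
        rw [hS, hS]
        exact Subgroup.mem_normalizer_iff.1 hx u
    have hK1mem : ∀ x : D, x ∈ normalizer ((S : Subgroup D) : Set D) ⊓ stabilizer D a ↔ (x : G) ∈ K1 :=
      fun x => ⟨fun hx => ⟨⟨(hnorm x).1 hx.1, hx.2⟩, x.2⟩, fun hx => ⟨(hnorm x).2 hx.1.1, hx.1.2⟩⟩
    obtain ⟨s, y, hs, hy, hyD, hys⟩ := exists_prime_mod hn h.cover h.hr
    have hiter : ∀ (j : ℕ) (x : D),
        ((((MulAut.conjNormal y : D ≃* D) : D → D)^[j] x : D) : G) = y ^ j * x * (y ^ j)⁻¹ := by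
      intro j
      induction j with
      | zero => intro x; simp
      | succ j ih =>
        intro x
        rw [Function.iterate_succ_apply', MulAut.conjNormal_apply, ih, pow_succ']
        group
    intro g hg hga ω
    obtain ⟨w, hw, hwω⟩ := orbits_eq (G := D) (Ω := Ω) S a
      ⟨fun u v e' => Subtype.ext (Subtype.ext (h.eq_of_smul ((hS _).1 u.2) ((hS _).1 v.2) a e')),
        fun x => by
          obtain ⟨u, hu, e'⟩ := h.hPtrans a x
          exact ⟨⟨⟨u, h.hPD hu⟩, (hS _).2 hu⟩, e'⟩⟩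
      (fun c hc => by
        obtain ⟨u, hu, hua⟩ := h.hPtrans a ((c : G) • a)
        refine (hS c).2 ?_
        have h1 : u⁻¹ * (c : G) = 1 := by
          refine h.eq_one_of_commute (by rw [mul_smul, ← hua, inv_smul_smul]) fun z hz => ?_
          have hcz : Commute (c : G) z := (congrArg Subtype.val
            (Subgroup.mem_centralizer_iff.1 hc ⟨z, h.hPD hz⟩ ((hS _).2 hz))).symm
          exact (show Commute u z from hcomm u hu z hz).inv_left.mul_left hcz
        rw [inv_mul_eq_one] at h1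
        exact h1 ▸ hu)
      (fun x hx hx1 z hz hz1 hc => hfree x ((hK1mem x).1 hx) (fun e' => hx1 (Subtype.ext e')) z
        ((hS z).1 hz) (fun e' => hz1 (Subtype.ext e')) (congrArg Subtype.val hc.eq))
      (by
        rw [← Nat.card_eq_fintype_card]
        refine lt_of_eq_of_lt (congrArg (· + 1) (Nat.card_congr ?_)) ht
        exact
          { toFun := fun x => ⟨((x : D) : G), (hK1mem _).1 x.2⟩
            invFun := fun x => ⟨⟨(x : G), x.2.2⟩, (hK1mem _).2 x.2⟩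
            left_inv := fun x => rfl
            right_inv := fun x => rfl })
      (MulAut.conjNormal y)
      (fun x => by
        rw [hS, hS, MulAut.conjNormal_apply]
        exact Subgroup.mem_normalizer_iff.1 hy.1 x)
      (fun x => by
        simp only [H33.permChar, Nat.cast_inj]
        refine Nat.card_congr ((MulAction.toPerm y⁻¹).subtypeEquiv fun z => ?_)
        show (MulAut.conjNormal y x : D) • z = z ↔ x • (y⁻¹ • z) = y⁻¹ • z
        show ((MulAut.conjNormal y x : D) : G) • z = z ↔ (x : G) • (y⁻¹ • z) = y⁻¹ • z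
        rw [MulAut.conjNormal_apply, mul_smul, mul_smul, eq_inv_smul_iff])
      hs
      (fun η x => by
        rw [← CharBasic.IsIrr.isClassFunction η.2 x ⟨y ^ s, hys⟩]
        exact congrArg (η : D → ℂ) (Subtype.ext (by rw [hiter]; rfl)))
      (fun η hη => dvd_defChar h.setting hs hyD hys η hη)
      ⟨g, hg⟩ hga ω
    exact ⟨w, (hK1mem w).1 hw, hwω⟩
  -- reduce to an element of `D` fixing `a` and another point
  obtain ⟨g, hgD, hga, hg1, β, hβ, hβa⟩ : ∃ g ∈ D, g • a = a ∧ g ≠ 1 ∧ ∃ β : Ω, g • β = β ∧ β ≠ a := by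
    have hgD : g₀ ∈ D := by_contra fun hnot => hω (h.setting.unique_fix g₀ hnot ω₁ ω₂ hω₁ hω₂)
    obtain ⟨d, hd, hda⟩ := h.setting.trans ω₁ a
    refine ⟨d * g₀ * d⁻¹, hn.conj_mem g₀ hgD d, ?_, fun e' => hg₀ (conj_eq_one_iff.1 e'), d • ω₂, ?_, ?_⟩
    · rw [← hda, mul_smul, inv_smul_smul, mul_smul, hω₁]
    · rw [mul_smul, inv_smul_smul, mul_smul, hω₂]
    · rw [← hda]
      exact fun e' => hω (smul_left_cancel d e'.symm)
  -- the two exponents
  have hpair : ∀ β : Ω, g • β = β → ∀ b ∈ P, b • a = β → ∀ z ∈ P, g • z • a ≠ z • a → β ≠ a →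
      ∃ w ∈ K1, ∃ w' ∈ K1, g • z • a = (w * z * w⁻¹) • a ∧ w ≠ 1 ∧ w' ≠ 1 ∧ w ≠ w' ∧
        w * z * w⁻¹ = b * (w' * b⁻¹ * w'⁻¹) * (w' * z * w'⁻¹) := by
    intro β hβ b hb hba z hz hmove hne
    obtain ⟨w, hw, hwz⟩ := horbits g hgD hga (z • a)
    have hgb : (b⁻¹ * g * b) • a = a := by
      rw [mul_smul, mul_smul, hba, hβ, ← hba, inv_smul_smul]
    obtain ⟨w', hw', hwz'⟩ := horbits (b⁻¹ * g * b)
      (by simpa using hn.conj_mem g hgD b⁻¹) hgb ((b⁻¹ * z) • a)
    have e1 : g • z • a = (w * z * w⁻¹) • a := by rw [h.conj_smul hw.1.2, hwz]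
    have e2 : w * z * w⁻¹ = b * (w' * b⁻¹ * w'⁻¹) * (w' * z * w'⁻¹) := by
      refine h.eq_of_smul (hconj w hw.1 z hz)
        (mul_mem (mul_mem hb (hconj w' hw'.1 _ (inv_mem hb))) (hconj w' hw'.1 z hz)) a ?_
      rw [← e1, show b * (w' * b⁻¹ * w'⁻¹) * (w' * z * w'⁻¹) = b * (w' * (b⁻¹ * z) * w'⁻¹) by group,
        mul_smul, h.conj_smul hw'.1.2, hwz', smul_smul, smul_smul, smul_smul]
      congr 1
      group
    have hb1 : b ≠ 1 := fun e' => hne (by rw [← hba, e', one_smul])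
    have hw1 : w ≠ 1 := by
      intro e'
      refine hmove ?_
      rw [e1, e']
      simp
    refine ⟨w, hw, w', hw', e1, hw1, ?_, ?_, e2⟩
    · intro e'
      refine hmove ?_
      rw [e1, e2, e']
      simp
    · intro e'
      subst e'
      refine hfree w hw hw1 b hb hb1 (mul_inv_eq_iff_eq_mul.1 ?_)
      have h2 : b * (w * b⁻¹ * w⁻¹) = 1 := mul_eq_right.1 e2.symm
      calc w * b * w⁻¹ = (w * b⁻¹ * w⁻¹)⁻¹ := by group
        _ = (b⁻¹)⁻¹ := by rw [eq_inv_of_mul_eq_one_right h2]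
        _ = b := inv_inv b
  have hcov : ∀ ω : Ω, ∃ b ∈ P, b • a = ω := fun ω => h.hPtrans a ω
  choose bof hbof hbofa using hcov
  set A1 : Set Ω := {ω | g • ω = ω ∧ ω ≠ a} with hA1
  set A2 : Set Ω := {ω | g • ω ≠ ω} with hA2
  obtain ⟨z₀, hz₀, hz₀m⟩ : ∃ z ∈ P, g • z • a ≠ z • a := by
    by_contra hno
    push Not at hno
    refine hg1 (FaithfulSMul.eq_of_smul_eq_smul fun x : Ω => ?_)
    obtain ⟨z, hz, rfl⟩ := h.hPtrans a x
    rw [hno z hz, one_smul]
  obtain ⟨w₀, hw₀, w₀', hw₀', hw₀z, hw₀1, hw₀'1, hw₀ne, -⟩ :=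
    hpair β hβ (bof β) (hbof β) (hbofa β) z₀ hz₀ hz₀m hβa
  have he3 : 3 ≤ e := by
    rw [he, ← SetLike.coe_sort_coe, Nat.card_coe_set_eq]
    have h3 : ({1, w₀, w₀'} : Set G).ncard = 3 := by
      rw [Set.ncard_insert_of_notMem (by simp [hw₀1.symm, hw₀'1.symm]), Set.ncard_pair hw₀ne]
    rw [← h3]
    exact Set.ncard_le_ncard (by simp [Set.insert_subset_iff, hw₀, hw₀', one_mem]) (Set.toFinite _)
  -- few fixed points
  have hA1card : A1.ncard ≤ e - 2 := by
    have hT : ((K1 : Set G) \ {1, w₀}).ncard = e - 2 := by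
      rw [Set.ncard_sdiff (by simp [Set.insert_subset_iff, hw₀, one_mem]) (Set.toFinite _),
        Set.ncard_pair hw₀1.symm, he, ← SetLike.coe_sort_coe, Nat.card_coe_set_eq]
    rw [← hT]
    have hchoice : ∀ ω ∈ A1, ∃ w' ∈ (K1 : Set G) \ {1, w₀},
        w₀ * z₀ * w₀⁻¹ = bof ω * (w' * (bof ω)⁻¹ * w'⁻¹) * (w' * z₀ * w'⁻¹) := by
      intro ω hω
      obtain ⟨w, hw, w', hw', e1, hw1, hw'1, hne, e2⟩ :=
        hpair ω hω.1 (bof ω) (hbof ω) (hbofa ω) z₀ hz₀ hz₀m hω.2
      have hww : w = w₀ := by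
        have h1 : w * z₀ * w⁻¹ = w₀ * z₀ * w₀⁻¹ :=
          h.eq_of_smul (hconj w hw.1 z₀ hz₀) (hconj w₀ hw₀.1 z₀ hz₀) a (e1.symm.trans hw₀z)
        by_contra hne'
        refine hfree (w₀⁻¹ * w) (mul_mem (inv_mem hw₀) hw) (fun e' => hne' (inv_mul_eq_one.1 e').symm)
          z₀ hz₀ (fun e' => hz₀m (by rw [e', one_smul, hga])) ?_
        show w₀⁻¹ * w * z₀ = z₀ * (w₀⁻¹ * w)
        calc w₀⁻¹ * w * z₀ = w₀⁻¹ * (w * z₀ * w⁻¹) * w := by group
          _ = w₀⁻¹ * (w₀ * z₀ * w₀⁻¹) * w := by rw [h1]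
          _ = z₀ * (w₀⁻¹ * w) := by group
      rw [hww] at e2 hne
      exact ⟨w', ⟨hw', by simp [hw'1, hne.symm]⟩, e2⟩
    choose f hf hfe using hchoice
    refine Set.ncard_le_ncard_of_injOn (fun ω => if hω : ω ∈ A1 then f ω hω else 1)
      (fun ω hω => by simp only [dif_pos hω]; exact hf ω hω) ?_ (Set.toFinite _)
    intro ω hω ω' hω' e'
    simp only [dif_pos hω, dif_pos hω'] at e'
    have h1 := (hfe ω hω).symm.trans (hfe ω' hω')
    rw [← e'] at h1
    set w' := f ω hω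
    set b := bof ω
    set b' := bof ω'
    have hw' : w' ∈ K1 := (hf ω hω).1
    have hw'1 : w' ≠ 1 := fun e'' => (hf ω hω).2 (by simp [e'', w'] )
    have h2 : b * (w' * b⁻¹ * w'⁻¹) = b' * (w' * b'⁻¹ * w'⁻¹) := mul_right_cancel h1
    have hcommw : Commute w' (b'⁻¹ * b) := by
      show w' * (b'⁻¹ * b) = b'⁻¹ * b * w'
      calc w' * (b'⁻¹ * b) = b'⁻¹ * (b' * (w' * b'⁻¹ * w'⁻¹)) * (w' * b) := by group
        _ = b'⁻¹ * (b * (w' * b⁻¹ * w'⁻¹)) * (w' * b) := by rw [h2]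
        _ = b'⁻¹ * b * w' := by group
    have hbb : b'⁻¹ * b = 1 := by_contra fun hne =>
      hfree w' hw' hw'1 _ (mul_mem (inv_mem (hbof ω')) (hbof ω)) hne hcommw
    rw [← hbofa ω, ← hbofa ω', show bof ω = bof ω' from (inv_mul_eq_one.1 hbb).symm]
  -- few moved points
  have hA2card : A2.ncard ≤ (e - 1) * (e - 1) - (e - 1) := by
    set U : Finset G := ((K1 : Set G).toFinite.toFinset).erase 1 with hU
    have hUcard : U.card = e - 1 := by
      rw [hU, Finset.card_erase_of_mem (by simp), ← Set.ncard_eq_toFinset_card, he,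
        ← SetLike.coe_sort_coe, Nat.card_coe_set_eq]
    have hchoice : ∀ ω ∈ A2, ∃ ww ∈ U.offDiag,
        (ww.1 * bof ω * ww.1⁻¹) =
          bof β * (ww.2 * (bof β)⁻¹ * ww.2⁻¹) * (ww.2 * bof ω * ww.2⁻¹) := by
      intro ω hω
      obtain ⟨w, hw, w', hw', -, hw1, hw'1, hne, e2⟩ :=
        hpair β hβ (bof β) (hbof β) (hbofa β) (bof ω) (hbof ω) (by rw [hbofa]; exact hω) hβa
      refine ⟨(w, w'), Finset.mem_offDiag.2 ⟨?_, ?_, hne⟩, e2⟩
      · exact Finset.mem_erase.2 ⟨hw1, (Set.Finite.mem_toFinset _).2 hw⟩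
      · exact Finset.mem_erase.2 ⟨hw'1, (Set.Finite.mem_toFinset _).2 hw'⟩
    choose f hf hfe using hchoice
    have hoff : U.offDiag.card = (e - 1) * (e - 1) - (e - 1) := by rw [Finset.offDiag_card, hUcard]
    rw [← hoff, ← Set.ncard_coe_finset]
    refine Set.ncard_le_ncard_of_injOn (fun ω => if hω : ω ∈ A2 then f ω hω else (1, 1))
      (fun ω hω => by simp only [dif_pos hω]; exact hf ω hω) ?_ (Set.toFinite _)
    intro ω hω ω' hω' e'
    simp only [dif_pos hω, dif_pos hω'] at e'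
    have h1 := hfe ω hω
    have h2 := hfe ω' hω'
    rw [← e'] at h2
    obtain ⟨hwU, hw'U, hwne⟩ := Finset.mem_offDiag.1 (hf ω hω)
    set w := (f ω hω).1
    set w' := (f ω hω).2
    set z := bof ω
    set z' := bof ω'
    set c := bof β * (w' * (bof β)⁻¹ * w'⁻¹)
    have hmem : ∀ {x}, x ∈ U → x ∈ K1 := by
      intro x hx
      exact (Set.Finite.mem_toFinset _).1 (Finset.mem_of_mem_erase hx)
    have hcommw : Commute (w'⁻¹ * w) (z'⁻¹ * z) := by
      show w'⁻¹ * w * (z'⁻¹ * z) = z'⁻¹ * z * (w'⁻¹ * w)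
      calc w'⁻¹ * w * (z'⁻¹ * z) = w'⁻¹ * ((w * z' * w⁻¹)⁻¹ * (w * z * w⁻¹)) * w := by group
        _ = w'⁻¹ * ((c * (w' * z' * w'⁻¹))⁻¹ * (c * (w' * z * w'⁻¹))) * w := by rw [h1, h2]
        _ = z'⁻¹ * z * (w'⁻¹ * w) := by group
    have hzz : z'⁻¹ * z = 1 := by_contra fun hne =>
      hfree _ (mul_mem (inv_mem (hmem hw'U)) (hmem hwU)) (fun e'' => hwne (inv_mul_eq_one.1 e'').symm)
        _ (mul_mem (inv_mem (hbof ω')) (hbof ω)) hne hcommw
    rw [← hbofa ω, ← hbofa ω', show bof ω = bof ω' from (inv_mul_eq_one.1 hzz).symm]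
  have huniv : (Set.univ : Set Ω) ⊆ {a} ∪ (A1 ∪ A2) := by
    intro ω _
    by_cases h1 : g • ω = ω
    · by_cases h2 : ω = a
      · exact Or.inl h2
      · exact Or.inr (Or.inl ⟨h1, h2⟩)
    · exact Or.inr (Or.inr h1)
  have htot := le_trans (Set.ncard_le_ncard huniv (Set.toFinite _))
    (le_trans (Set.ncard_union_le _ _) (Nat.add_le_add_left (Set.ncard_union_le _ _) _))
  rw [Set.ncard_univ, Set.ncard_singleton] at htot
  apply hbad
  obtain ⟨f, hf⟩ : ∃ f, e = f + 2 := ⟨e - 2, by omega⟩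
  set r := D.index
  have h4 : (e - 1) * (e - 1) - (e - 1) = (f + 1) * f := by
    rw [hf, show f + 2 - 1 = f + 1 by omega, ← Nat.mul_sub_one, Nat.add_sub_cancel]
  rw [h4] at hA2card
  have h5 : r * (f + 2) ≤ f * (f + 2) := by
    have : r * (f + 2) ≤ f + (f + 1) * f := by rw [← hf]; omega
    calc r * (f + 2) ≤ f + (f + 1) * f := this
      _ = f * (f + 2) := by ring
  have h6 : r ≤ f := Nat.le_of_mul_le_mul_right h5 (by omega)
  have h7 : r * (f + 2) + 1 ≤ Nat.card Ω := by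
    rw [← hf]; have := h.hn4; omega
  calc (r + 1) ^ 2 = r * (r + 2) + 1 := by ring
    _ ≤ r * (f + 2) + 1 := Nat.add_le_add_right (Nat.mul_le_mul_left _ (by omega)) _
    _ ≤ Nat.card Ω := h7

end RegConf

end Cfsg.Agent.Derange
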