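import Cfsg.Agent.Derange.Fixed

/-!
# Fixed points of generated subgroups
-/

set_option autoImplicit false

namespace Cfsg.Agent.Derange

open Subgroup

variable {G : Type*} [Group G]

theorem fixIn_closure_eq (P : Subgroup G) (s : Set G) {x : G} :
    x ∈ fixIn P (closure s) ↔ x ∈ P ∧ ∀ b ∈ s, b * x = x * b := by
  rw [fixIn, mem_inf, centralizer_closure, mem_centralizer_iff]

theorem fixIn_zpowers (P : Subgroup G) (t : G) {x : G} :
    x ∈ fixIn P (zpowers t) ↔ x ∈ P ∧ t * x = x * t := by
  rw [zpowers_eq_closure, fixIn_closure_eq]; simp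

theorem comm_of_generators {s s' : Set G} (h : ∀ x ∈ s, ∀ y ∈ s', x * y = y * x) {b b' : G}
    (hb : b ∈ closure s) (hb' : b' ∈ closure s') : b * b' = b' * b := by
  have h1 : closure s' ≤ centralizer s := (closure_le _).2 fun y hy =>
    mem_centralizer_iff.2 fun x hx => h x hx y hy
  have h2 : closure s ≤ centralizer (closure s' : Set G) := (closure_le _).2 fun x hx =>
    mem_centralizer_iff.2 fun y hy => (mem_centralizer_iff.1 (h1 hy) x hx).symm
  exact (mem_centralizer_iff.1 (h2 hb) b' hb').symm

end Cfsg.Agent.Derange
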