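import Mathlib

/-!
# A group of class two with free centre has small central quotient
-/

set_option autoImplicit false
set_option linter.style.haveILetI false

namespace Cfsg.Agent.Derange

open Subgroup

/-- Representatives of a class two group modulo a central subgroup acting freely are independent. -/
theorem index_le_finrank {H K V : Type*} [Group H] [Finite H] [Field K] [AddCommGroup V] [Module K V]
    [Module.Finite K V] [Nontrivial V] (ρ : H →* Module.End K V) (Z : Subgroup H)
    (hZ : ∀ z ∈ Z, ∀ h, z * h = h * z)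
    (hfree : ∀ z ∈ Z, z ≠ 1 → ∀ v : V, ρ z v = v → v = 0)
    (hclass : ∀ c d : H, d * c * d⁻¹ * c⁻¹ ∈ Z)
    (hcentre : ∀ c ∉ Z, ∃ d : H, d * c ≠ c * d) :
    Z.index ≤ Module.finrank K V ^ 2 := by
  classical
  have hinv : ∀ c, ρ c * ρ c⁻¹ = 1 := fun c => by rw [← map_mul, mul_inv_cancel, map_one]
  have hsub : ∀ u ∈ Z, ∀ v ∈ Z, u ≠ v →
      ∀ A : Module.End K V, (ρ u - ρ v) * A = 0 → A = 0 := by
    intro u hu v hv huv A hA
    refine LinearMap.ext fun x => ?_
    have h1 : ρ u (A x) = ρ v (A x) := sub_eq_zero.1 (LinearMap.congr_fun hA x)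
    refine hfree (v⁻¹ * u) (mul_mem (inv_mem hv) hu) (fun e => huv (inv_mul_eq_one.1 e).symm) _ ?_
    rw [map_mul, Module.End.mul_apply, h1, ← Module.End.mul_apply, ← map_mul, inv_mul_cancel,
      map_one, Module.End.one_apply]
  have key : ∀ s : Finset H, (∀ c ∈ s, ∀ d ∈ s, c ≠ d → c⁻¹ * d ∉ Z) →
      ∀ A : H → Module.End K V, (∀ c d, Commute (A c) (ρ d)) →
      ∑ c ∈ s, A c * ρ c = 0 → ∀ c ∈ s, A c = 0 := by
    intro s
    induction s using Finset.induction with
    | empty => simp
    | insert c₀ s hc₀ ih =>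
      intro hdist A hA hsum
      have hs : ∀ c ∈ s, ∀ d ∈ s, c ≠ d → c⁻¹ * d ∉ Z := fun c hc d hd =>
        hdist c (Finset.mem_insert_of_mem hc) d (Finset.mem_insert_of_mem hd)
      have hothers : ∀ c ∈ s, A c = 0 := by
        intro c hc
        obtain ⟨d, hne⟩ := hcentre (c₀⁻¹ * c)
          (hdist c₀ (Finset.mem_insert_self _ _) c (Finset.mem_insert_of_mem hc)
            (fun e => hc₀ (e ▸ hc)))
        let ζ : H → H := fun e => d * e * d⁻¹ * e⁻¹
        have hζZ : ∀ e, ζ e ∈ Z := fun e => hclass e d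
        have hζC : ∀ e e', Commute (ρ (ζ e)) (ρ e') := fun e e' =>
          (show Commute (ζ e) e' from hZ _ (hζZ e) e').map ρ
        have h1 : ∑ e ∈ insert c₀ s, ρ (ζ e) * A e * ρ e = 0 := by
          have h2 := congrArg (fun T => ρ d * T * ρ d⁻¹) hsum
          simp only [Finset.mul_sum, Finset.sum_mul, mul_zero, zero_mul] at h2
          rw [← h2]
          refine Finset.sum_congr rfl fun e _ => ?_
          calc ρ (ζ e) * A e * ρ e = A e * (ρ (ζ e) * ρ e) := by rw [← (hA e (ζ e)).eq, mul_assoc]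
            _ = A e * ρ (d * e * d⁻¹) := by
              rw [← map_mul]; exact congrArg (fun z => A e * ρ z) (by simp [ζ])
            _ = A e * ρ d * ρ e * ρ d⁻¹ := by rw [map_mul, map_mul]; simp [mul_assoc]
            _ = ρ d * (A e * ρ e) * ρ d⁻¹ := by rw [(hA e d).eq]; simp [mul_assoc]
        have h3 : ∑ e ∈ s, (ρ (ζ e) - ρ (ζ c₀)) * A e * ρ e = 0 := by
          have h4 := congrArg (fun T => ρ (ζ c₀) * T) hsum
          simp only [mul_zero, Finset.mul_sum, ← mul_assoc] at h4
          have h5 : ∑ e ∈ insert c₀ s, (ρ (ζ e) - ρ (ζ c₀)) * A e * ρ e = 0 := by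
            simp only [sub_mul, Finset.sum_sub_distrib, h1, h4, sub_zero]
          rwa [Finset.sum_insert hc₀, sub_self, zero_mul, zero_mul, zero_add] at h5
        have h6 := ih hs (fun e => (ρ (ζ e) - ρ (ζ c₀)) * A e)
          (fun e e' => ((hζC e e').sub_left (hζC c₀ e')).mul_left (hA e e')) h3 c hc
        refine hsub _ (hζZ c) _ (hζZ c₀) ?_ _ h6
        intro e
        apply hne
        have e' : d * c * d⁻¹ * c⁻¹ = d * c₀ * d⁻¹ * c₀⁻¹ := e
        set u := d * c₀ * d⁻¹ * c₀⁻¹ with hu
        calc d * (c₀⁻¹ * c) = (d * c₀ * d⁻¹)⁻¹ * (d * c * d⁻¹) * d := by group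
          _ = (u * c₀)⁻¹ * (u * c) * d := by
            rw [show d * c₀ * d⁻¹ = u * c₀ by rw [hu]; group,
              show d * c * d⁻¹ = u * c by rw [← e']; group]
          _ = c₀⁻¹ * c * d := by group
      intro c hc
      rcases Finset.mem_insert.1 hc with rfl | hc
      · rw [Finset.sum_insert hc₀, Finset.sum_eq_zero (fun e he => by rw [hothers e he, zero_mul]),
          add_zero] at hsum
        have := congrArg (fun T => T * ρ c⁻¹) hsum
        simpa [mul_assoc, hinv] using this
      · exact hothers c hc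
  let r : (H ⧸ Z) → H := Quotient.out
  have hr : ∀ i j, i ≠ j → (r i)⁻¹ * r j ∉ Z := fun i j hij h => hij (by
    rw [← QuotientGroup.out_eq' i, ← QuotientGroup.out_eq' j]
    exact QuotientGroup.eq.2 h)
  have hrinj : Function.Injective r := fun i j h => by
    rw [← QuotientGroup.out_eq' i, ← QuotientGroup.out_eq' j]; exact congrArg _ h
  have := Fintype.ofFinite (H ⧸ Z)
  have hli : LinearIndependent K (fun i => ρ (r i)) := by
    rw [Fintype.linearIndependent_iff]
    intro g hg i
    have h := key (Finset.univ.image r) (by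
        intro c hc d hd hne
        obtain ⟨i, -, rfl⟩ := Finset.mem_image.1 hc
        obtain ⟨j, -, rfl⟩ := Finset.mem_image.1 hd
        exact hr i j fun e => hne (e ▸ rfl))
      (fun c => g (c : H ⧸ Z) • (1 : Module.End K V))
      (fun c d => (Commute.one_left _).smul_left _) (by
        rw [Finset.sum_image fun i _ j _ e => hrinj e]
        simpa [r, QuotientGroup.out_eq'] using hg)
      (r i) (Finset.mem_image_of_mem r (Finset.mem_univ i))
    simp only [r, QuotientGroup.out_eq'] at h
    exact (smul_eq_zero.1 h).resolve_right one_ne_zero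
  have hle := hli.fintype_card_le_finrank
  rw [show Module.finrank K (Module.End K V) = Module.finrank K V * Module.finrank K V from
    Module.finrank_linearMap K K V V, ← sq] at hle
  rwa [Subgroup.index, Nat.card_eq_fintype_card]

/-- The form for additive operators over a prime field. -/
theorem index_le_sq_of_addHom {H V : Type*} [Group H] [Finite H] [AddCommGroup V] [Finite V]
    [Nontrivial V] {p a : ℕ} [hp : Fact p.Prime] [Module (ZMod p) V] (hcard : Nat.card V = p ^ a)
    (φ : H → (V →+ V)) (hone : ∀ x, φ 1 x = x) (hmul : ∀ c d x, φ (c * d) x = φ c (φ d x))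
    (Z : Subgroup H) (hZ : ∀ z ∈ Z, ∀ h, z * h = h * z)
    (hfree : ∀ z ∈ Z, z ≠ 1 → ∀ v : V, φ z v = v → v = 0)
    (hclass : ∀ c d : H, d * c * d⁻¹ * c⁻¹ ∈ Z)
    (hcentre : ∀ c ∉ Z, ∃ d : H, d * c ≠ c * d) :
    Z.index ≤ a ^ 2 := by
  have : Module.Finite (ZMod p) V := Module.Finite.of_finite
  let ρ : H →* Module.End (ZMod p) V :=
    { toFun := fun c => (φ c).toZModLinearMap p
      map_one' := LinearMap.ext fun x => hone x
      map_mul' := fun c d => LinearMap.ext fun x => hmul c d x }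
  have h := index_le_finrank ρ Z hZ (fun z hz hz1 v hv => hfree z hz hz1 v hv) hclass hcentre
  have ha : Module.finrank (ZMod p) V = a := by
    refine Nat.pow_right_injective hp.out.two_le ?_
    show p ^ _ = p ^ a
    rw [← hcard, Module.natCard_eq_pow_finrank (K := ZMod p) (V := V), Nat.card_zmod]
  rwa [ha] at h

/-- The multiplicative form for a group of prime exponent. -/
theorem index_le_sq_of_hom {H M : Type*} [Group H] [Finite H] [CommGroup M] [Finite M] [Nontrivial M]
    {p a : ℕ} [hp : Fact p.Prime] (hexp : ∀ x : M, x ^ p = 1) (hcard : Nat.card M = p ^ a)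
    (φ : H →* Monoid.End M) (Z : Subgroup H) (hZ : ∀ z ∈ Z, ∀ h, z * h = h * z)
    (hfree : ∀ z ∈ Z, z ≠ 1 → ∀ v : M, φ z v = v → v = 1)
    (hclass : ∀ c d : H, d * c * d⁻¹ * c⁻¹ ∈ Z)
    (hcentre : ∀ c ∉ Z, ∃ d : H, d * c ≠ c * d) :
    Z.index ≤ a ^ 2 := by
  exact @index_le_sq_of_addHom H (Additive M) _ _ _ _ _ p a hp
    (AddCommGroup.zmodModule fun x => Additive.toMul.injective (hexp (Additive.toMul x)))
    ((Nat.card_congr Additive.toMul).trans hcard) (fun c => MonoidHom.toAdditive (φ c))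
    (fun x => by
      show φ 1 (Additive.toMul x) = Additive.toMul x
      rw [map_one]; rfl)
    (fun c d x => by
      show φ (c * d) (Additive.toMul x) = φ c (φ d (Additive.toMul x))
      rw [map_mul]; rfl)
    Z hZ
    (fun z hz hz1 v hv => Additive.toMul.injective
      (hfree z hz hz1 _ (congrArg Additive.toMul hv))) hclass hcentre

variable {G : Type*} [Group G] [Finite G]

/-- The central quotient of a class two operator group with free centre embeds in the operators. -/
theorem relIndex_le_sq {p a : ℕ} [hp : Fact p.Prime] {P C Z : Subgroup G}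
    (hcomm : ∀ x ∈ P, ∀ y ∈ P, x * y = y * x) (hexp : ∀ x ∈ P, x ^ p = 1)
    (hcard : Nat.card P = p ^ a) (hP : P ≠ ⊥) (hCP : C ≤ normalizer (P : Set G))
    (hZ : ∀ z ∈ Z, ∀ c ∈ C, z * c = c * z)
    (hfree : ∀ z ∈ Z, z ≠ 1 → ∀ y ∈ P, y ≠ 1 → ¬ Commute z y)
    (hclass : ∀ c ∈ C, ∀ d ∈ C, d * c * d⁻¹ * c⁻¹ ∈ Z)
    (hcentre : ∀ c ∈ C, c ∉ Z → ∃ d ∈ C, d * c ≠ c * d) :
    Z.relIndex C ≤ a ^ 2 := by
  letI : CommGroup ↥P :=
    { (inferInstance : Group ↥P) with mul_comm := fun x y => Subtype.ext (hcomm _ x.2 _ y.2) }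
  haveI : Nontrivial ↥P := (Subgroup.nontrivial_iff_ne_bot P).2 hP
  let φ : ↥C →* Monoid.End ↥P :=
    { toFun := fun c =>
        { toFun := fun x => ⟨(c : G) * x * (c : G)⁻¹, (mem_normalizer_iff.1 (hCP c.2) x).1 x.2⟩
          map_one' := Subtype.ext (by simp)
          map_mul' := fun x y => Subtype.ext (by simp [mul_assoc]) }
      map_one' := MonoidHom.ext fun x => Subtype.ext (by
        show ((1 : ↥C) : G) * (x : G) * ((1 : ↥C) : G)⁻¹ = (x : G)
        simp)
      map_mul' := fun c d => MonoidHom.ext fun x => Subtype.ext (by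
        show ((c : G) * (d : G)) * (x : G) * ((c : G) * (d : G))⁻¹ =
          (c : G) * ((d : G) * (x : G) * (d : G)⁻¹) * (c : G)⁻¹
        group) }
  exact index_le_sq_of_hom (fun x => Subtype.ext (by simpa using hexp x x.2)) hcard φ
    (Z.subgroupOf C) (fun z hz c => Subtype.ext (hZ _ hz _ c.2))
    (fun z hz hz1 v hv => by
      by_contra hne
      exact hfree _ hz (fun e => hz1 (Subtype.ext e)) _ v.2 (fun e => hne (Subtype.ext e))
        (mul_inv_eq_iff_eq_mul.1 (congrArg Subtype.val hv : (z : G) * _ * (z : G)⁻¹ = _)))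
    (fun c d => hclass _ c.2 _ d.2)
    (fun c hc => by
      obtain ⟨d, hd, hne⟩ := hcentre _ c.2 hc
      exact ⟨⟨d, hd⟩, fun e => hne (congrArg Subtype.val e)⟩)

end Cfsg.Agent.Derange
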