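import Cfsg.Agent.Derange.OpData
import Cfsg.Agent.Derange.Linear
import Cfsg.Agent.Derange.Generators

/-!
# The symplectic type operator group
-/

set_option autoImplicit false
set_option maxHeartbeats 800000

namespace Cfsg.Agent.Derange

open Subgroup

variable {G : Type*} [Group G] [Finite G] {p q a r : ℕ} {P Q L M C Z : Subgroup G} {z : G}

/-- What is known about the critical subgroup `C` and its cyclic centre `Z`. -/
structure CentreData (q : ℕ) (P Q L C Z : Subgroup G) (z : G) : Prop where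
  hCQ : C ≤ Q
  hLC : ∀ l ∈ L, ∀ x ∈ C, l * x * l⁻¹ ∈ C
  hcl : ∀ x ∈ Q, ∀ c ∈ C, x * c * x⁻¹ * c⁻¹ ∈ Z
  hcpow : ∀ c ∈ C, c ^ q ∈ Z
  hself : ∀ x ∈ Q, (∀ c ∈ C, c * x = x * c) → x ∈ C
  hZC : Z ≤ C
  hZc : ∀ u ∈ Z, ∀ c ∈ C, c * u = u * c
  hzZ : z ∈ Z
  hzq : z ^ q = 1
  hz1 : z ≠ 1
  hzfree : ∀ v ∈ P, Commute z v → v = 1
  hzpowfree : ∀ i : ℕ, ¬ q ∣ i → ∀ v ∈ P, Commute (z ^ i) v → v = 1
  huniq : ∀ u ∈ Z, u ^ q = 1 → ∃ i < q, u = z ^ i
  hzQ : ∀ x ∈ Q, x * z = z * x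
  hconjz : ∀ c ∈ C, c ∉ Z → ∀ i : ℕ, ∃ d ∈ C, d * c * d⁻¹ = z ^ i * c
  hcyc : ∃ h ∈ Z, Z = zpowers h
  hkC : ∀ {k : G} {y : G}, k ∈ Z → y ∈ P → y ≠ 1 → Commute k y → k = 1
  hsplit : q = 2 → (∀ u ∈ Z, u = 1 ∨ u = z) ∨ ∃ u ∈ Z, u * u = z
  hZfree : ∀ u ∈ Z, u ≠ 1 → ∀ v ∈ P, v ≠ 1 → ¬ Commute u v

/-- The noncentral elements of order `q`. -/
def rootSet (q : ℕ) (C Z : Subgroup G) : Set G := {x | x ∈ C ∧ x ∉ Z ∧ x ^ q = 1}

omit [Finite G] in
theorem mul_pow_class_two {x y c : G} (hyx : y * x = c * (x * y)) (hcx : Commute c x)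
    (hcy : Commute c y) : ∀ n : ℕ, (x * y) ^ n = c ^ n.choose 2 * (x ^ n * y ^ n) := by
  have hy : ∀ n : ℕ, y ^ n * x = c ^ n * (x * y ^ n) := by
    intro n
    induction n with
    | zero => simp
    | succ n ih =>
      calc y ^ (n + 1) * x = y * (y ^ n * x) := by rw [pow_succ', mul_assoc]
        _ = (y * c ^ n) * (x * y ^ n) := by rw [ih, mul_assoc]
        _ = c ^ n * ((y * x) * y ^ n) := by rw [← (hcy.pow_left n).eq]; group
        _ = c ^ (n + 1) * (x * y ^ (n + 1)) := by rw [hyx, pow_succ, pow_succ']; group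
  intro n
  induction n with
  | zero => simp
  | succ n ih =>
    calc (x * y) ^ (n + 1) = c ^ n.choose 2 * (x ^ n * (y ^ n * x) * y) := by
          rw [pow_succ, ih]; group
      _ = c ^ n.choose 2 * (x ^ n * c ^ n * (x * y ^ n) * y) := by rw [hy]; group
      _ = c ^ n.choose 2 * (c ^ n * x ^ n * (x * y ^ n) * y) := by
          rw [((hcx.pow_left n).pow_right n).eq]
      _ = c ^ (n + 1).choose 2 * (x ^ (n + 1) * y ^ (n + 1)) := by
          rw [Nat.choose_succ_succ' n 1, Nat.choose_one_right, pow_succ x, pow_succ y, add_comm,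
            pow_add]
          group

namespace CentreData

variable (h : CentreData q P Q L C Z z)
include h

theorem two_commutator {x c : G} (hx : x ∈ Q) (hc : c ∈ C) (htwo : ∀ u ∈ Z, u = 1 ∨ u = z) :
    x * c = c * x ∨ x * c = z * (c * x) := by
  rcases htwo _ (h.hcl x hx c hc) with e | e
  · rw [mul_inv_eq_one, mul_inv_eq_iff_eq_mul] at e; exact Or.inl e
  · rw [mul_inv_eq_iff_eq_mul, mul_inv_eq_iff_eq_mul] at e
    exact Or.inr (by rw [e, mul_assoc])

theorem index_gt (hq : q.Prime) (hQ : IsPGroup q Q) {c₀ d₀ : G} (hc₀ : c₀ ∈ C) (hd₀ : d₀ ∈ C)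
    (hne : d₀ * c₀ ≠ c₀ * d₀) : q < Z.relIndex C := by
  have := Fact.mk hq
  have hc₀Z : c₀ ∉ Z := fun hm => hne (h.hZc c₀ hm d₀ hd₀)
  set C1 := Z ⊔ zpowers c₀ with hC1
  have hC1C : C1 ≤ C := sup_le h.hZC (zpowers_le.2 hc₀)
  have hprod := relIndex_mul_relIndex Z C1 C le_sup_left hC1C
  have h1 : q ≤ Z.relIndex C1 := by
    obtain ⟨n, hn⟩ := (hQ.to_le (le_trans hC1C h.hCQ)).index (Z.subgroupOf C1)
    rw [Subgroup.relIndex, hn]
    refine Nat.le_self_pow ?_ q
    rintro rfl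
    rw [pow_zero] at hn
    exact hc₀Z (relIndex_eq_one.1 hn (mem_sup_right (mem_zpowers c₀)))
  have h2 : 2 ≤ C1.relIndex C := by
    have h3 : C1.relIndex C ≠ 1 := by
      intro e
      refine hne ?_
      have : C1 ≤ centralizer {c₀} := sup_le
        (fun u hu => mem_centralizer_singleton_iff.2 (h.hZc u hu c₀ hc₀).symm)
        (zpowers_le.2 (mem_centralizer_singleton_iff.2 rfl))
      exact mem_centralizer_singleton_iff.1 (this (relIndex_eq_one.1 e hd₀))
    have : C1.relIndex C ≠ 0 := Subgroup.index_ne_zero_of_finite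
    omega
  have := Nat.mul_le_mul h1 h2
  have := hq.pos
  omega

/-- There is a noncentral element of order `q`. -/
theorem exists_root (hq : q.Prime) (hQ : IsPGroup q Q) {k y : G} (hk : k ∈ Q) (hk1 : k ≠ 1)
    (hy : y ∈ P) (hy1 : y ≠ 1) (hky : Commute k y)
    {c₀ d₀ : G} (hc₀ : c₀ ∈ C) (hd₀ : d₀ ∈ C) (hne : d₀ * c₀ ≠ c₀ * d₀) :
    ∃ t, t ∈ rootSet q C Z := by
  by_contra hno
  push Not at hno
  have := Fact.mk hq
  have hroot : ∀ x ∈ C, x ∉ Z → ∀ u ∈ Z, x ^ q ≠ u ^ q := by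
    intro x hx hxZ u hu e
    refine hno (x * u⁻¹) ⟨mul_mem hx (inv_mem (h.hZC hu)), fun h' => hxZ ?_, ?_⟩
    · simpa using mul_mem h' hu
    · rw [Commute.mul_pow (Commute.inv_right (h.hZc u hu x hx)), e, inv_pow, mul_inv_cancel]
  have hc₀Z : c₀ ∉ Z := fun hm => hne (h.hZc c₀ hm d₀ hd₀)
  have hd₀Z : d₀ ∉ Z := fun hm => hne (h.hZc d₀ hm c₀ hc₀).symm
  have hcdZ : c₀ * d₀ ∉ Z := fun hm => hne (by
    have h1 := h.hZc _ hm c₀ hc₀
    rw [mul_assoc] at h1
    exact (mul_left_cancel h1).symm)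
  rcases hq.eq_two_or_odd' with hq2 | hqodd
  · rcases h.hsplit hq2 with htwo | ⟨u, hu, huu⟩
    · have hz2 : z * z = 1 := by rw [← pow_two, ← hq2, h.hzq]
      have hsq : ∀ x ∈ C, x ∉ Z → x * x = z := by
        intro x hx hxZ
        rcases htwo _ (h.hcpow x hx) with e | e
        · exact absurd e (by simpa using hroot x hx hxZ 1 (one_mem Z))
        · rwa [hq2, pow_two] at e
      have hdc : d₀ * c₀ = z * (c₀ * d₀) :=
        (h.two_commutator (h.hCQ hd₀) hc₀ htwo).resolve_left hne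
      have hcd : c₀ * d₀ = z * (d₀ * c₀) := by rw [hdc, ← mul_assoc, hz2, one_mul]
      have hadj : ∀ x ∈ Q, ∃ c ∈ C, (x * c) * c₀ = c₀ * (x * c) ∧ (x * c) * d₀ = d₀ * (x * c) ∧
          ∀ v, Commute v c₀ → Commute v d₀ → Commute v c := by
        intro x hx
        have hzc : ∀ w ∈ Q, ∀ v : G, w * (z * v) = z * (w * v) := fun w hw v => by
          rw [← mul_assoc, h.hzQ w hw, mul_assoc]
        have hzz : ∀ v : G, z * (z * v) = v := fun v => by rw [← mul_assoc, hz2, one_mul]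
        rcases h.two_commutator hx hc₀ htwo with e1 | e1 <;>
          rcases h.two_commutator hx hd₀ htwo with e2 | e2
        · exact ⟨1, one_mem C, by simpa using e1, by simpa using e2,
            fun v _ _ => Commute.one_right v⟩
        · refine ⟨c₀, hc₀, ?_, ?_, fun v hv _ => hv⟩
          · rw [e1, mul_assoc, e1]
          · rw [mul_assoc, hcd, hzc x hx, ← mul_assoc x, e2, mul_assoc z, hzz, mul_assoc]
        · refine ⟨d₀, hd₀, ?_, ?_, fun v _ hv => hv⟩
          · rw [mul_assoc, hdc, hzc x hx, ← mul_assoc x, e1, mul_assoc z, hzz, mul_assoc]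
          · rw [e2, mul_assoc, e2]
        · refine ⟨c₀ * d₀, mul_mem hc₀ hd₀, ?_, ?_, fun v hv hv' => hv.mul_right hv'⟩
          · calc x * (c₀ * d₀) * c₀ = x * (c₀ * (d₀ * c₀)) := by group
              _ = z * (x * (c₀ * (c₀ * d₀))) := by rw [hdc, hzc c₀ (h.hCQ hc₀), hzc x hx]
              _ = z * ((x * c₀) * (c₀ * d₀)) := by group
              _ = c₀ * (x * (c₀ * d₀)) := by rw [e1, mul_assoc z, hzz]; group
          · calc x * (c₀ * d₀) * d₀ = x * ((c₀ * d₀) * d₀) := by group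
              _ = z * (x * ((d₀ * c₀) * d₀)) := by rw [hcd, mul_assoc z, hzc x hx]
              _ = z * ((x * d₀) * (c₀ * d₀)) := by group
              _ = d₀ * (x * (c₀ * d₀)) := by rw [e2, mul_assoc z, hzz]; group
      by_cases hbig : ∃ e ∈ C, e * c₀ = c₀ * e ∧ e * d₀ = d₀ * e ∧ e ∉ Z
      · obtain ⟨e, he, hec, hed, heZ⟩ := hbig
        refine hno (e * c₀) ⟨mul_mem he hc₀, fun hmem => hne ?_, ?_⟩
        · have h1 : Commute d₀ (e⁻¹ * (e * c₀)) :=
            (Commute.inv_right hed.symm).mul_right (h.hZc _ hmem d₀ hd₀)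
          simpa [mul_assoc] using h1.eq
        · rw [hq2, pow_two]
          calc e * c₀ * (e * c₀) = e * (c₀ * e) * c₀ := by group
            _ = (e * e) * (c₀ * c₀) := by rw [← hec]; group
            _ = 1 := by rw [hsq e he heZ, hsq c₀ hc₀ hc₀Z, hz2]
      · push Not at hbig
        obtain ⟨c, hc, h1, h2, h3⟩ := hadj k hk
        have hkc : k * c ∈ C := by
          refine h.hself _ (mul_mem hk (h.hCQ hc)) fun e he => ?_
          obtain ⟨c', hc', h4, h5, h6⟩ := hadj e (h.hCQ he)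
          have h7 : e * c' ∈ Z := hbig _ (mul_mem he hc') h4 h5
          have h8 : Commute (k * c) (e * c') := by
            rcases htwo _ h7 with e' | e' <;> rw [e']
            · exact Commute.one_right _
            · exact h.hzQ _ (mul_mem hk (h.hCQ hc))
          have h9 : Commute (k * c) c' := h6 _ h1 h2
          have h10 := h8.mul_right h9.inv_right
          rw [mul_inv_cancel_right] at h10
          exact h10.eq.symm
        have hkC : k ∈ C := by simpa using mul_mem hkc (inv_mem hc)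
        have hk2 := hsq k hkC fun hm => hk1 (h.hkC hm hy hy1 hky)
        exact hy1 (h.hzfree y hy (hk2 ▸ hky.mul_left hky))
    · obtain ⟨h₀, hh₀, hZh⟩ := h.hcyc
      have hsq : ∀ x ∈ C, x ∉ Z → ∃ j : ℤ, x * x = h₀ ^ j ∧ ¬ (2 : ℤ) ∣ j := by
        intro x hx hxZ
        have h1 := h.hcpow x hx
        rw [hZh, hq2, pow_two] at h1
        obtain ⟨j, hj⟩ := mem_zpowers_iff.1 h1
        refine ⟨j, hj.symm, ?_⟩
        rintro ⟨m, rfl⟩
        refine hroot x hx hxZ (h₀ ^ m) (zpow_mem hh₀ m) ?_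
        rw [hq2, pow_two, pow_two, ← hj, ← zpow_add, two_mul]
      obtain ⟨i, hi, hi'⟩ := hsq c₀ hc₀ hc₀Z
      obtain ⟨j, hj, hj'⟩ := hsq d₀ hd₀ hd₀Z
      obtain ⟨e, heZ, hee⟩ : ∃ e ∈ Z, d₀ * c₀ = (e * e) * (c₀ * d₀) := by
        have hcZ := h.hcl d₀ (h.hCQ hd₀) c₀ hc₀
        set v := d₀ * c₀ * d₀⁻¹ * c₀⁻¹ with hv
        have hdc : d₀ * c₀ = v * (c₀ * d₀) := by rw [hv]; group
        have hvq : v ^ q = 1 := by
          have h1 : (v * c₀) ^ q = d₀ * c₀ ^ q * d₀⁻¹ := by rw [← conj_pow, hv]; group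
          rw [Commute.mul_pow (h.hZc v hcZ c₀ hc₀).symm, h.hZc _ (h.hcpow c₀ hc₀) d₀ hd₀,
            mul_inv_cancel_right] at h1
          exact mul_eq_right.1 h1
        obtain ⟨n, hn, hvn⟩ := h.huniq v hcZ hvq
        refine ⟨u ^ n, pow_mem hu n, ?_⟩
        rw [← (Commute.refl u).mul_pow, huu, ← hvn]
        exact hdc
      obtain ⟨m, hm⟩ : ∃ m : ℤ, i + j = 2 * m := ⟨(i + j) / 2, by omega⟩
      refine hroot (c₀ * d₀) (mul_mem hc₀ hd₀) hcdZ (e * h₀ ^ m) (mul_mem heZ (zpow_mem hh₀ m)) ?_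
      rw [hq2, pow_two, pow_two]
      have hee' : Commute c₀ (e * e) :=
        (show Commute c₀ e from h.hZc e heZ c₀ hc₀).mul_right (h.hZc e heZ c₀ hc₀)
      have heh : Commute (h₀ ^ m) e := h.hZc e heZ _ (h.hZC (zpow_mem hh₀ m))
      calc c₀ * d₀ * (c₀ * d₀) = c₀ * (d₀ * c₀) * d₀ := by group
        _ = (c₀ * (e * e)) * (c₀ * d₀) * d₀ := by rw [hee]; group
        _ = (e * e) * ((c₀ * c₀) * (d₀ * d₀)) := by rw [hee'.eq]; group
        _ = (e * e) * (h₀ ^ m * h₀ ^ m) := by rw [hi, hj, ← zpow_add, ← zpow_add, hm, two_mul]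
        _ = e * (e * h₀ ^ m) * h₀ ^ m := by group
        _ = e * (h₀ ^ m * e) * h₀ ^ m := by rw [heh.eq]
        _ = e * h₀ ^ m * (e * h₀ ^ m) := by group
  · have h2q : 2 < q := by
      rcases hqodd with ⟨m, hm⟩; have := hq.two_le; omega
    let f : ↥C →* ↥Z :=
      { toFun := fun x => ⟨(x : G) ^ q, h.hcpow x x.2⟩
        map_one' := Subtype.ext (one_pow q)
        map_mul' := fun x y => Subtype.ext (by
          show ((x : G) * y) ^ q = (x : G) ^ q * (y : G) ^ q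
          set c := (y : G) * x * (y : G)⁻¹ * (x : G)⁻¹ with hc
          have hcZ : c ∈ Z := h.hcl y (h.hCQ y.2) x x.2
          have hcq : c ^ q = 1 := by
            have h1 : (c * x) ^ q = (y : G) * (x : G) ^ q * (y : G)⁻¹ := by rw [← conj_pow, hc]; group
            rw [Commute.mul_pow (h.hZc c hcZ x x.2).symm, h.hZc _ (h.hcpow x x.2) y y.2,
              mul_inv_cancel_right] at h1
            exact mul_eq_right.1 h1
          obtain ⟨m, hm⟩ := hq.dvd_choose_self (k := 2) (by norm_num) h2q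
          rw [mul_pow_class_two (c := c) (by rw [hc]; group) (h.hZc c hcZ x x.2).symm
            (h.hZc c hcZ y y.2).symm q, hm, pow_mul, hcq, one_pow, one_mul]) }
    have hker : Nat.card f.ker ≤ q := by
      refine le_trans (Nat.card_le_card_of_surjective
        (fun i : Fin q => (⟨⟨z ^ (i : ℕ), h.hZC (pow_mem h.hzZ _)⟩, Subtype.ext (by
          show (z ^ (i : ℕ)) ^ q = 1
          rw [← pow_mul, mul_comm, pow_mul, h.hzq, one_pow])⟩ : f.ker)) ?_) (le_of_eq (by simp))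
      intro x
      have hxq : ((x : ↥C) : G) ^ q = 1 := congrArg Subtype.val (MonoidHom.mem_ker.1 x.2)
      have hxZ : ((x : ↥C) : G) ∈ Z := by
        by_contra hxZ; exact hno _ ⟨(x : ↥C).2, hxZ, hxq⟩
      obtain ⟨i, hi, hxi⟩ := h.huniq _ hxZ hxq
      exact ⟨⟨i, hi⟩, Subtype.ext (Subtype.ext hxi.symm)⟩
    have h1 : Nat.card C ≤ q * Nat.card Z := by
      rw [← Subgroup.card_mul_index f.ker, Subgroup.index_ker]
      exact Nat.mul_le_mul hker (Subgroup.card_le_card_group _)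
    have h2 : Z.relIndex C * Nat.card Z = Nat.card C := by
      rw [← Subgroup.index_mul_card (Z.subgroupOf C),
        Nat.card_congr (Subgroup.subgroupOfEquivOfLe h.hZC).toEquiv]
      rfl
    have h3 := h.index_gt hq hQ hc₀ hd₀ hne
    have : q * Nat.card Z < Z.relIndex C * Nat.card Z := Nat.mul_lt_mul_of_pos_right h3 Nat.card_pos
    omega

/-- Noncentral elements of order `q` have fixed points. -/
theorem root_fixed (hD : OpData p q a r P Q L M) {t : G} (ht : t ∈ rootSet q C Z) :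
    ∃ v ∈ P, v ≠ 1 ∧ Commute t v := by
  have := Fact.mk hD.hq
  have hQP : Q ≤ normalizer (P : Set G) := le_trans hD.hQL hD.hLP
  obtain ⟨htC, htZ, htq⟩ := ht
  rcases exists_fixed_of_pair hD.hcomm hD.hPne hD.hexp
    ((Nat.coprime_primes hD.hp hD.hq).2 hD.hpq) (hQP (h.hCQ htC)) (hQP (h.hCQ (h.hZC h.hzZ)))
    (h.hzQ t (h.hCQ htC)) htq h.hzq with ⟨v, hv, hv1, hc⟩ | ⟨i, v, hv, hv1, hc⟩
  · exact absurd (h.hzfree v hv hc) hv1
  · obtain ⟨d, hd, hde⟩ := h.hconjz t htC htZ i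
    refine ⟨d⁻¹ * v * d⁻¹⁻¹, (mem_normalizer_iff.1 (hD.hLP (inv_mem (hD.hQL (h.hCQ hd)))) v).1 hv,
      fun e => hv1 (conj_eq_one_iff.1 e), ?_⟩
    have h1 : t * z ^ i = d * t * d⁻¹ := by
      rw [hde]; exact ((show Commute t z from h.hzQ t (h.hCQ htC)).pow_right i).eq
    rw [h1] at hc
    show t * (d⁻¹ * v * d⁻¹⁻¹) = d⁻¹ * v * d⁻¹⁻¹ * t
    calc t * (d⁻¹ * v * d⁻¹⁻¹) = d⁻¹ * ((d * t * d⁻¹) * v) * d := by group
      _ = d⁻¹ * (v * (d * t * d⁻¹)) * d := by rw [hc.eq]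
      _ = d⁻¹ * v * d⁻¹⁻¹ * t := by group

theorem root_card_le (hq : q.Prime) : (rootSet q C Z).ncard ≤ q * Z.relIndex C := by
  classical
  have : Fintype G := Fintype.ofFinite G
  have : Fintype (↥C ⧸ Z.subgroupOf C) := Fintype.ofFinite _
  have hmem : ∀ x, x ∈ (rootSet q C Z).toFinset → x ∈ C := fun x hx => (Set.mem_toFinset.1 hx).1
  rw [Set.ncard_eq_toFinset_card', Subgroup.relIndex, Subgroup.index, Nat.card_eq_fintype_card,
    ← Finset.card_univ]
  let g : G → ↥C ⧸ Z.subgroupOf C := fun x => if hx : x ∈ C then (⟨x, hx⟩ : ↥C) else (1 : ↥C)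
  refine Finset.card_le_mul_card_image_of_maps_to (f := g) (fun x _ => Finset.mem_univ _) q
    fun b _ => ?_
  rcases (Finset.filter (fun x => g x = b) (rootSet q C Z).toFinset).eq_empty_or_nonempty with
    e | ⟨x, hx⟩
  · rw [e]; simp
  · rw [Finset.mem_filter] at hx
    refine le_trans (Finset.card_le_card (t := (Finset.range q).image fun i => x * z ^ i) ?_)
      (le_trans Finset.card_image_le (le_of_eq (Finset.card_range q)))
    intro y hy
    rw [Finset.mem_filter] at hy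
    have hxy : g x = g y := hx.2.trans hy.2.symm
    simp only [g, dif_pos (hmem x hx.1), dif_pos (hmem y hy.1)] at hxy
    have hu : x⁻¹ * y ∈ Z := mem_subgroupOf.1 (QuotientGroup.eq.1 hxy)
    have hxq := (Set.mem_toFinset.1 hx.1).2.2
    have hyq := (Set.mem_toFinset.1 hy.1).2.2
    have huq : (x⁻¹ * y) ^ q = 1 := by
      rw [show y = x * (x⁻¹ * y) by group,
        Commute.mul_pow (h.hZc _ hu x (hmem x hx.1)), hxq, one_mul] at hyq
      exact hyq
    obtain ⟨i, hi, hxi⟩ := h.huniq _ hu huq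
    exact Finset.mem_image.2 ⟨i, Finset.mem_range.2 hi, by rw [← hxi, mul_inv_cancel_left]⟩

end CentreData

end Cfsg.Agent.Derange
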