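import Cfsg.Agent.Derange.Nonabelian

/-!
# The bound for symplectic type operator groups
-/

set_option autoImplicit false
set_option maxHeartbeats 800000

namespace Cfsg.Agent.Derange

open Subgroup

variable {G : Type*} [Group G] [Finite G] {p q a r : ℕ} {P Q L M C Z : Subgroup G} {z : G}

namespace CentreData

variable (h : CentreData q P Q L C Z z)
include h

theorem root_conj_mem {x l : G} (hD : OpData p q a r P Q L M) (hl : l ∈ L)
    (hx : x ∈ rootSet q C Z) : l * x * l⁻¹ ∈ rootSet q C Z := by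
  refine ⟨h.hLC l hl x hx.1, fun hm => ?_, by rw [conj_pow, hx.2.2]; group⟩
  obtain ⟨d, hd, hde⟩ := h.hconjz x hx.1 hx.2.1 1
  refine h.hz1 ?_
  have hm' := h.hZc _ hm (l * d * l⁻¹) (h.hLC l hl d hd)
  have h1 : l * (d * x) * l⁻¹ = l * (x * d) * l⁻¹ := by
    calc l * (d * x) * l⁻¹ = (l * d * l⁻¹) * (l * x * l⁻¹) := by group
      _ = (l * x * l⁻¹) * (l * d * l⁻¹) := hm'
      _ = l * (x * d) * l⁻¹ := by group
  rw [mul_left_cancel (mul_right_cancel h1), mul_inv_cancel_right, pow_one] at hde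
  exact mul_eq_right.1 hde.symm

theorem fix_commute {b t l v : G} (hD : OpData p q a r P Q L M) (hl : l ∈ L) (hv : v ∈ P)
    (hbl : l * b * l⁻¹ = t) (hbv : Commute b v) :
    l * v * l⁻¹ ∈ P ∧ Commute t (l * v * l⁻¹) := by
  refine ⟨(mem_normalizer_iff.1 (hD.hLP hl) v).1 hv, ?_⟩
  rw [← hbl]
  show l * b * l⁻¹ * (l * v * l⁻¹) = l * v * l⁻¹ * (l * b * l⁻¹)
  calc l * b * l⁻¹ * (l * v * l⁻¹) = l * (b * v) * l⁻¹ := by group
    _ = l * (v * b) * l⁻¹ := by rw [hbv.eq]
    _ = l * v * l⁻¹ * (l * b * l⁻¹) := by group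

/-- The fixed points of `z ^ i * t` and of `t` are equally many. -/
theorem card_fix_shift (hD : OpData p q a r P Q L M) {t : G} (ht : t ∈ C) (htZ : t ∉ Z) (i : ℕ) :
    Nat.card (fixIn P (zpowers (z ^ i * t))) = Nat.card (fixIn P (zpowers t)) := by
  obtain ⟨d, hd, hde⟩ := h.hconjz t ht htZ i
  refine hD.card_fixIn_conj (hD.hQL (h.hCQ hd)) fun b => ?_
  have h1 : zpowers (z ^ i * t) = (zpowers t).map (MulAut.conj d).toMonoidHom := by
    rw [MonoidHom.map_zpowers]; exact congrArg zpowers hde.symm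
  rw [h1, mem_map]
  simp only [MulEquiv.coe_toMonoidHom, MulAut.conj_apply]
  exact ⟨fun ⟨x, hx, hxe⟩ => by rw [← hxe]; simpa [mul_assoc] using hx,
    fun hb => ⟨_, hb, by group⟩⟩

/-- The odd case. -/
theorem bound_odd (hD : OpData p q a r P Q L M) (hlog : 15625 * a ^ 24 ≤ p ^ a) (ha : 1 ≤ a)
    (hq : q ≠ 2) (hidx : Z.relIndex C ≤ a ^ 2) {t : G} (ht : t ∈ rootSet q C Z) :
    (r + 1) ^ 2 ≤ p ^ a := by
  obtain ⟨v, hv, hv1, htv⟩ := h.root_fixed hD ht
  have hq3 : 3 ≤ q := by have := hD.hq.two_le; omega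
  have htQ := h.hCQ ht.1
  have hzQ' := h.hCQ (h.hZC h.hzZ)
  set w := Nat.card (fixIn P (zpowers t)) with hw
  have hw3 : w ^ 3 ≤ p ^ a := by
    have h3 : w ^ Nat.card (Fin 3) ≤ Nat.card P := card_family_le hD.hcomm
      (fun i : Fin 3 => zpowers (z ^ (i : ℕ) * t))
      (fun i => le_trans (zpowers_le.2 (mul_mem (pow_mem hzQ' _) htQ)) (le_trans hD.hQL hD.hLP))
      (fun i j x hx y hy => by
        rw [zpowers_eq_closure] at hx hy
        refine comm_of_generators ?_ hx hy
        intro s hs s' hs'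
        rw [Set.mem_singleton_iff] at hs hs'
        subst hs hs'
        have hzt : Commute z t := (h.hzQ t htQ).symm
        exact (((Commute.pow_pow_self z _ _).mul_right (hzt.pow_left _)).mul_left
          ((hzt.symm.pow_right _).mul_right (Commute.refl t))).eq)
      (fun i j hij => by
        refine (eq_bot_iff_forall _).2 fun u hu => ?_
        obtain ⟨h1, h2⟩ := mem_inf.1 hu
        rw [fixIn_zpowers] at h1 h2
        wlog hlt : (i : ℕ) < j generalizing i j
        · exact this j i (Ne.symm hij) (mem_inf.2 ⟨hu.2, hu.1⟩) h2 h1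
            (by rcases lt_trichotomy (i : ℕ) j with e | e | e
                · exact absurd e hlt
                · exact absurd (Fin.ext e) hij
                · exact e)
        refine h.hzpowfree ((j : ℕ) - i) (fun hd => ?_) u h1.1 ?_
        · have := Nat.le_of_dvd (by omega) hd
          omega
        · have h3 : z ^ (j : ℕ) * t = z ^ ((j : ℕ) - i) * (z ^ (i : ℕ) * t) := by
            rw [← mul_assoc, ← pow_add, Nat.sub_add_cancel hlt.le]
          have h4 : Commute (z ^ (j : ℕ) * t) u := h2.2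
          have h5 : Commute (z ^ (i : ℕ) * t) u := h1.2
          have h6 := h4.mul_left h5.inv_left
          rw [h3, mul_inv_cancel_right] at h6
          exact h6)
      (fun i => hD.coprime (zpowers_le.2 (mul_mem (pow_mem hzQ' _) htQ)))
      (fun i => le_of_eq (h.card_fix_shift hD ht.1 ht.2.1 i).symm)
    rwa [Nat.card_eq_fintype_card, Fintype.card_fin, hD.hcard] at h3
  let S := L ⊓ centralizer {t}
  have hvW : v ∈ fixIn P (zpowers t) := (fixIn_zpowers P t).2 ⟨hv, htv.eq⟩
  have h1 := hD.index_bound (S := S) (R := zpowers z) (W := fixIn P (zpowers t)) inf_le_left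
    (zpowers_le.2 (hD.hQM hzQ')) hv hv1 (fun l hl => (fixIn_zpowers P t).2 (by
      have := h.fix_commute hD hl.1 hv
        (mul_inv_eq_iff_eq_mul.2 (mem_centralizer_singleton_iff.1 hl.2)) htv
      exact ⟨this.1, this.2.eq⟩))
  have h2 : S.relIndex L ≤ q * a ^ 2 := by
    refine le_trans (relIndex_le_ncard (fun l => l * t * l⁻¹) _ (Set.toFinite _)
      (fun l hl => h.root_conj_mem hD hl ht)
      fun l hl l' hl' e => ⟨L.mul_mem (L.inv_mem hl) hl', mem_centralizer_singleton_iff.2 ?_⟩)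
      (le_trans (h.root_card_le hD.hq) (Nat.mul_le_mul_left _ hidx))
    calc l⁻¹ * l' * t = l⁻¹ * (l' * t * l'⁻¹) * l' := by group
      _ = l⁻¹ * (l * t * l⁻¹) * l' := by rw [← e]
      _ = t * (l⁻¹ * l') := by group
  have h3 : (S ⊓ centralizer {v}).relIndex (zpowers z) = q := by
    rw [← inf_relIndex_right, show (S ⊓ centralizer {v}) ⊓ zpowers z = ⊥ from
      (eq_bot_iff_forall _).2 fun c hc => by
        by_contra hc1
        exact h.hZfree c (zpowers_le.2 h.hzZ hc.2) hc1 v hv hv1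
          (mem_centralizer_singleton_iff.1 hc.1.2), relIndex_bot_left, Nat.card_zpowers]
    have := Fact.mk hD.hq
    exact orderOf_eq_prime h.hzq h.hz1
  rw [h3] at h1
  refine sq_le_of_cube hlog ha ?_ Nat.card_pos hw3
  refine Nat.le_of_mul_le_mul_right ?_ hD.hq.pos
  calc r * q ≤ q * a ^ 2 * (w - 1) := le_trans h1 (Nat.mul_le_mul_right _ h2)
    _ ≤ q * (4 * a ^ 4) * w :=
      Nat.mul_le_mul (Nat.mul_le_mul_left _ (le_trans (Nat.pow_le_pow_right (by omega) (by omega : 2 ≤ 4))
        (Nat.le_mul_of_pos_left _ (by omega)))) (Nat.sub_le _ _)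
    _ = 4 * a ^ 4 * w * q := by ring

/-- For `q = 2`: when two independent roots commute. -/
theorem bound_pair (hD : OpData p q a r P Q L M) (hlog : 15625 * a ^ 24 ≤ p ^ a) (ha : 1 ≤ a)
    (hq : q = 2) (hidx : Z.relIndex C ≤ a ^ 2) {t u : G} (ht : t ∈ rootSet q C Z)
    (hu : u ∈ rootSet q C Z) (htu : Commute t u) (htuZ : t * u ∉ Z) :
    (r + 1) ^ 2 ≤ p ^ a := by
  have hz2 : z * z = 1 := by rw [← pow_two, ← hq, h.hzq]
  have hcase : ∀ c ∈ C, ∀ x ∈ rootSet q C Z, c * x * c⁻¹ = x ∨ c * x * c⁻¹ = z * x := by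
    intro c hc x hx
    set e := c * x * c⁻¹ * x⁻¹ with he
    have heZ : e ∈ Z := h.hcl c (h.hCQ hc) x hx.1
    have heq : e ^ q = 1 := by
      have h1 : (e * x) ^ q = c * x ^ q * c⁻¹ := by rw [← conj_pow, he]; group
      rw [Commute.mul_pow (h.hZc e heZ x hx.1).symm, hx.2.2] at h1
      simpa using h1
    obtain ⟨i, hi, hei⟩ := h.huniq e heZ heq
    rw [hq] at hi
    have hcx : c * x * c⁻¹ = e * x := by rw [he]; group
    interval_cases i
    · left; rw [hcx, hei, pow_zero, one_mul]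
    · right; rw [hcx, hei, pow_one]
  have key : ∀ s ∈ rootSet q C Z, ∀ s' ∈ rootSet q C Z, Commute s s' → s * s' ∉ Z →
      ∃ c ∈ C, c * s * c⁻¹ = z * s ∧ c * s' * c⁻¹ = s' := by
    intro s hs s' hs' hss hssZ
    obtain ⟨c, hc, hcs⟩ := h.hconjz s hs.1 hs.2.1 1
    rw [pow_one] at hcs
    rcases hcase c hc s' hs' with e | e
    · exact ⟨c, hc, hcs, e⟩
    obtain ⟨d, hd, hds⟩ := h.hconjz (s * s') (mul_mem hs.1 hs'.1) hssZ 1
    rw [pow_one] at hds
    have hdss : d * (s * s') * d⁻¹ = (d * s * d⁻¹) * (d * s' * d⁻¹) := by group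
    rcases hcase d hd s hs with e1 | e1 <;> rcases hcase d hd s' hs' with e2 | e2
    · exfalso
      rw [hdss, e1, e2] at hds
      exact h.hz1 (mul_eq_right.1 hds.symm)
    · refine ⟨c * d, mul_mem hc hd, ?_, ?_⟩
      · calc c * d * s * (c * d)⁻¹ = c * (d * s * d⁻¹) * c⁻¹ := by group
          _ = z * s := by rw [e1, hcs]
      · calc c * d * s' * (c * d)⁻¹ = c * (d * s' * d⁻¹) * c⁻¹ := by group
          _ = c * z * s' * c⁻¹ := by rw [e2]; group
          _ = z * (c * s' * c⁻¹) := by rw [h.hzQ c (h.hCQ hc)]; group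
          _ = s' := by rw [e, ← mul_assoc, hz2, one_mul]
    · exact ⟨d, hd, e1, e2⟩
    · exfalso
      rw [hdss, e1, e2] at hds
      refine h.hz1 ?_
      have h1 : z * s * (z * s') = s * s' := by
        rw [← mul_assoc (z * s), mul_assoc z s z, h.hzQ s (h.hCQ hs.1), ← mul_assoc z z, hz2, one_mul]
      rw [h1] at hds
      exact mul_eq_right.1 hds.symm
  obtain ⟨c₁, hc₁, hc₁t, hc₁u⟩ := key t ht u hu htu htuZ
  obtain ⟨c₂, hc₂, hc₂u, hc₂t⟩ := key u hu t ht htu.symm (htu.eq ▸ htuZ)
  have htQ := h.hCQ ht.1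
  have huQ := h.hCQ hu.1
  have hzQ' := h.hCQ (h.hZC h.hzZ)
  have hzt : Commute z t := (h.hzQ t htQ).symm
  have hzu : Commute z u := (h.hzQ u huQ).symm
  -- a common fixed point
  obtain ⟨v, hv, hv1, htv, huv⟩ : ∃ v ∈ P, v ≠ 1 ∧ Commute t v ∧ Commute u v := by
    obtain ⟨v, hv, hv1, htv⟩ := h.root_fixed hD ht
    by_contra hno
    push Not at hno
    let W := fixIn P (zpowers t)
    have huu : u * u = 1 := by rw [← pow_two, ← hq, hu.2.2]
    have hzinv : z * v * z⁻¹ = v⁻¹ := conj_eq_inv_of_free hD.hcomm hz2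
      (fun x hx => (mem_normalizer_iff.1 (hD.hLP (hD.hQL hzQ')) x).1 hx)
      (fun x hx hc => h.hzfree x hx hc) hv
    have huinv : u * v * u⁻¹ = v⁻¹ := conj_eq_inv_of_free (W := W)
      (fun x hx y hy => hD.hcomm x hx.1 y hy.1) huu
      (fun x hx => (fixIn_zpowers P t).2 (by
        obtain ⟨hxP, hxt⟩ := (fixIn_zpowers P t).1 hx
        have := h.fix_commute hD (hD.hQL huQ) hxP (mul_inv_eq_iff_eq_mul.2 htu.symm.eq) hxt
        exact ⟨this.1, this.2.eq⟩))
      (fun x hx hc => by
        obtain ⟨hxP, hxt⟩ := (fixIn_zpowers P t).1 hx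
        by_contra hx1
        exact hno x hxP hx1 hxt hc) ((fixIn_zpowers P t).2 ⟨hv, htv.eq⟩)
    have h1 : Commute (z * u) v := by
      refine mul_inv_eq_iff_eq_mul.1 ?_
      calc z * u * v * (z * u)⁻¹ = z * (u * v * u⁻¹) * z⁻¹ := by group
        _ = (z * v * z⁻¹)⁻¹ := by rw [huinv]; group
        _ = v := by rw [hzinv, inv_inv]
    have h2 := h.fix_commute hD (inv_mem (hD.hQL (h.hCQ hc₂))) hv (t := t)
      (show c₂⁻¹ * t * c₂⁻¹⁻¹ = t by
        calc c₂⁻¹ * t * c₂⁻¹⁻¹ = c₂⁻¹ * (c₂ * t * c₂⁻¹) * c₂ := by rw [hc₂t, inv_inv]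
          _ = t := by group) htv
    have h3 := h.fix_commute hD (inv_mem (hD.hQL (h.hCQ hc₂))) hv (t := u)
      (show c₂⁻¹ * (z * u) * c₂⁻¹⁻¹ = u by rw [← hc₂u]; group) h1
    exact hno _ h2.1 (fun e => hv1 (conj_eq_one_iff.1 e)) h2.2 h3.2
  let B : Fin 3 → Set G := fun i => if i = 0 then {t, u} else if i = 1 then {z * t, u} else {t, z * u}
  set w := Nat.card (fixIn P (closure {t, u})) with hw
  have hBQ : ∀ i, closure (B i) ≤ Q := by
    intro i
    refine (closure_le _).2 ?_
    fin_cases i <;> simp [B, Set.insert_subset_iff, htQ, huQ, mul_mem hzQ' htQ, mul_mem hzQ' huQ]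
  have hgen : ∀ i, ∀ x ∈ B i, Commute x t ∧ Commute x u ∧ Commute x z := by
    intro i x hx
    fin_cases i <;> simp [B] at hx <;> rcases hx with rfl | rfl
    · exact ⟨Commute.refl _, htu, hzt.symm⟩
    · exact ⟨htu.symm, Commute.refl _, hzu.symm⟩
    · exact ⟨hzt.mul_left (Commute.refl _), hzu.mul_left htu, (Commute.refl z).mul_left hzt.symm⟩
    · exact ⟨htu.symm, Commute.refl _, hzu.symm⟩
    · exact ⟨Commute.refl _, htu, hzt.symm⟩
    · exact ⟨hzt.mul_left htu.symm, hzu.mul_left (Commute.refl _), (Commute.refl z).mul_left hzu.symm⟩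
  have hw3 : w ^ 3 ≤ p ^ a := by
    have h3 : w ^ Nat.card (Fin 3) ≤ Nat.card P := card_family_le hD.hcomm
      (fun i => closure (B i)) (fun i => le_trans (hBQ i) (le_trans hD.hQL hD.hLP))
      (fun i j x hx y hy => by
        refine comm_of_generators (fun a' ha' b' hb' => ?_) hx hy
        obtain ⟨h1, h2, h3⟩ := hgen i a' ha'
        fin_cases j <;> simp [B] at hb' <;> rcases hb' with rfl | rfl
        · exact h1.eq
        · exact h2.eq
        · exact (h3.mul_right h1).eq
        · exact h2.eq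
        · exact h1.eq
        · exact (h3.mul_right h2).eq)
      (fun i j hij => by
        refine (eq_bot_iff_forall _).2 fun x hx => ?_
        obtain ⟨h1, h2⟩ := mem_inf.1 hx
        rw [fixIn_closure_eq] at h1 h2
        have k1 : Commute t x → Commute (z * t) x → x = 1 := fun e1 e2 => h.hzfree x h1.1 (by
          have := e2.mul_left e1.inv_left
          rwa [mul_inv_cancel_right] at this)
        have k2 : Commute u x → Commute (z * u) x → x = 1 := fun e1 e2 => h.hzfree x h1.1 (by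
          have := e2.mul_left e1.inv_left
          rwa [mul_inv_cancel_right] at this)
        fin_cases i <;> fin_cases j <;> simp [B] at hij h1 h2
        · exact k1 h1.2.1 h2.2.1
        · exact k2 h1.2.2 h2.2.2
        · exact k1 h2.2.1 h1.2.1
        · exact k1 h2.2.1 h1.2.1
        · exact k2 h2.2.2 h1.2.2
        · exact k1 h1.2.1 h2.2.1)
      (fun i => hD.coprime (hBQ i))
      (fun i => by
        have hshift : ∀ {c : G}, c ∈ C → ∀ {s s' : G}, c * t * c⁻¹ = s → c * u * c⁻¹ = s' →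
            w ≤ Nat.card (fixIn P (closure {s, s'})) := by
          intro c hc s s' e1 e2
          refine le_of_eq (hD.card_fixIn_conj (hD.hQL (h.hCQ hc)) fun b => ?_).symm
          have h1 : closure ({s, s'} : Set G) = (closure {t, u}).map (MulAut.conj c).toMonoidHom := by
            rw [MonoidHom.map_closure, Set.image_pair]
            simp [e1, e2]
          rw [h1, mem_map]
          simp only [MulEquiv.coe_toMonoidHom, MulAut.conj_apply]
          exact ⟨fun ⟨x, hx, hxe⟩ => by rw [← hxe]; simpa [mul_assoc] using hx,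
            fun hb => ⟨_, hb, by group⟩⟩
        fin_cases i <;> simp only [B]
        · simp [hw]
        · simpa using hshift hc₁ hc₁t hc₁u
        · simpa using hshift hc₂ hc₂t hc₂u)
    rwa [Nat.card_eq_fintype_card, Fintype.card_fin, hD.hcard] at h3
  let S := L ⊓ centralizer {t, u}
  have hvW : v ∈ fixIn P (closure {t, u}) :=
    (fixIn_closure_eq P _).2 ⟨hv, by simp [htv.eq, huv.eq]⟩
  have hSc : ∀ {l}, l ∈ S → l * t * l⁻¹ = t ∧ l * u * l⁻¹ = u := fun {l} hl =>
    ⟨mul_inv_eq_iff_eq_mul.2 (mem_centralizer_iff.1 hl.2 t (by simp)).symm,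
      mul_inv_eq_iff_eq_mul.2 (mem_centralizer_iff.1 hl.2 u (by simp)).symm⟩
  have h1 := hD.index_bound (S := S) (R := (⊥ : Subgroup G)) (W := fixIn P (closure {t, u}))
    inf_le_left bot_le hv hv1 (fun l hl => (fixIn_closure_eq P _).2 (by
      obtain ⟨e1, e2⟩ := hSc hl
      have k1 := h.fix_commute hD hl.1 hv e1 htv
      have k2 := h.fix_commute hD hl.1 hv e2 huv
      exact ⟨k1.1, by simp [k1.2.eq, k2.2.eq]⟩))
  rw [relIndex_bot_right, mul_one] at h1
  have h2 : S.relIndex L ≤ (2 * a ^ 2) * (2 * a ^ 2) := by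
    refine le_trans (relIndex_le_ncard (fun l => (l * t * l⁻¹, l * u * l⁻¹))
      (rootSet q C Z ×ˢ rootSet q C Z) (Set.toFinite _)
      (fun l hl => ⟨h.root_conj_mem hD hl ht, h.root_conj_mem hD hl hu⟩)
      fun l hl l' hl' e => ⟨L.mul_mem (L.inv_mem hl) hl', mem_centralizer_iff.2 ?_⟩) ?_
    · obtain ⟨e1, e2⟩ := Prod.ext_iff.1 e
      intro s hs
      simp only [Set.mem_insert_iff, Set.mem_singleton_iff] at hs
      rcases hs with rfl | rfl
      · calc s * (l⁻¹ * l') = l⁻¹ * (l * s * l⁻¹) * l' := by group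
          _ = l⁻¹ * (l' * s * l'⁻¹) * l' := by rw [show l * s * l⁻¹ = l' * s * l'⁻¹ from e1]
          _ = l⁻¹ * l' * s := by group
      · calc s * (l⁻¹ * l') = l⁻¹ * (l * s * l⁻¹) * l' := by group
          _ = l⁻¹ * (l' * s * l'⁻¹) * l' := by rw [show l * s * l⁻¹ = l' * s * l'⁻¹ from e2]
          _ = l⁻¹ * l' * s := by group
    · rw [Set.ncard_prod]
      have := le_trans (h.root_card_le hD.hq) (Nat.mul_le_mul (le_of_eq hq) hidx)
      exact Nat.mul_le_mul this this
  refine sq_le_of_cube hlog ha ?_ Nat.card_pos hw3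
  calc r ≤ (2 * a ^ 2) * (2 * a ^ 2) * (w - 1) := le_trans h1 (Nat.mul_le_mul_right _ h2)
    _ ≤ (2 * a ^ 2) * (2 * a ^ 2) * w := Nat.mul_le_mul_left _ (Nat.sub_le _ _)
    _ = 4 * a ^ 4 * w := by ring

/-- For `q = 2`: no two independent roots commute. -/
theorem bound_nopair (hD : OpData p q a r P Q L M) (hq : q = 2)
    {t : G} (ht : t ∈ rootSet q C Z)
    (hno : ∀ t ∈ rootSet q C Z, ∀ u ∈ rootSet q C Z, Commute t u → t * u ∈ Z) :
    (r + 1) ^ 2 ≤ p ^ a := by
  obtain ⟨v, hv, hv1, htv⟩ := h.root_fixed hD ht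
  obtain ⟨htC, htZ, htq⟩ := ht
  have htQ := h.hCQ htC
  have hzQ' := h.hCQ (h.hZC h.hzZ)
  have hzt : Commute z t := (h.hzQ t htQ).symm
  have htt : t * t = 1 := by rw [← pow_two, ← hq, htq]
  have hz2 : z * z = 1 := by rw [← pow_two, ← hq, h.hzq]
  set w := Nat.card (fixIn P (zpowers t)) with hw
  have hw2 : w ^ 2 ≤ p ^ a := by
    have h3 : w ^ Nat.card Bool ≤ Nat.card P := card_family_le hD.hcomm
      (fun b : Bool => zpowers (if b then t else z ^ 1 * t))
      (fun b => le_trans (zpowers_le.2 (by cases b <;> simp [htQ, mul_mem hzQ' htQ]))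
        (le_trans hD.hQL hD.hLP))
      (fun b b' x hx x' hx' => by
        rw [zpowers_eq_closure] at hx hx'
        refine comm_of_generators ?_ hx hx'
        intro s hs s' hs'
        rw [Set.mem_singleton_iff] at hs hs'
        subst hs hs'
        cases b <;> cases b' <;> simp
        · exact (hzt.symm.mul_right (Commute.refl t)).symm.eq
        · exact (hzt.symm.mul_right (Commute.refl t)).eq)
      (fun b b' hne => by
        refine (eq_bot_iff_forall _).2 fun x hx => ?_
        obtain ⟨h1, h2⟩ := mem_inf.1 hx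
        rw [fixIn_zpowers] at h1 h2
        have k1 : Commute t x → Commute (z * t) x → x = 1 := fun e1 e2 => h.hzfree x h1.1 (by
          have := e2.mul_left e1.inv_left
          rwa [mul_inv_cancel_right] at this)
        cases b <;> cases b' <;> simp at hne h1 h2
        · exact k1 h2.2 h1.2
        · exact k1 h1.2 h2.2)
      (fun b => hD.coprime (zpowers_le.2 (by cases b <;> simp [htQ, mul_mem hzQ' htQ])))
      (fun b => by
        cases b
        · exact le_of_eq (h.card_fix_shift hD htC htZ 1).symm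
        · exact le_rfl)
    rwa [Nat.card_eq_fintype_card, Fintype.card_bool, hD.hcard] at h3
  let S := L ⊓ centralizer {t}
  have hvW : v ∈ fixIn P (zpowers t) := (fixIn_zpowers P t).2 ⟨hv, htv.eq⟩
  have h1 := hD.index_bound (S := S) (R := C) (W := fixIn P (zpowers t)) inf_le_left
    (le_trans h.hCQ hD.hQM) hv hv1 (fun l hl => (fixIn_zpowers P t).2 (by
      have := h.fix_commute hD hl.1 hv
        (mul_inv_eq_iff_eq_mul.2 (mem_centralizer_singleton_iff.1 hl.2)) htv
      exact ⟨this.1, this.2.eq⟩))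
  -- the stabilizer of the pair in `C` has order at most two
  set K := (S ⊓ centralizer {v}) ⊓ C with hK
  have hKcard : Nat.card K ≤ 2 := by
    have hsub : ∀ c ∈ K, c = 1 ∨ c = t := by
      intro c hc
      have hct : Commute c t := mem_centralizer_singleton_iff.1 hc.1.1.2
      have hcv : Commute c v := mem_centralizer_singleton_iff.1 hc.1.2
      by_cases hcZ : c ∈ Z
      · left
        by_contra hc1
        exact h.hZfree c hcZ hc1 v hv hv1 hcv
      · right
        have hc2 : c ^ q = 1 := by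
          by_contra hc1
          exact h.hZfree _ (h.hcpow c hc.2) hc1 v hv hv1 (hcv.pow_left q)
        have h3 := hno c ⟨hc.2, hcZ, hc2⟩ t ⟨htC, htZ, htq⟩ hct
        have h4 : c * t = 1 := by
          by_contra hne
          exact h.hZfree _ h3 hne v hv hv1 (hcv.mul_left htv)
        calc c = c * (t * t) := by rw [htt, mul_one]
          _ = t := by rw [← mul_assoc, h4, one_mul]
    calc Nat.card K = ((K : Set G)).ncard := Nat.card_coe_set_eq _
      _ ≤ ({1, t} : Set G).ncard := Set.ncard_le_ncard (fun c hc => by simpa using hsub c hc) (Set.toFinite _)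
      _ ≤ 2 := le_trans (Set.ncard_insert_le _ _) (by simp)
  have hCle : Nat.card C ≤ 2 * (S ⊓ centralizer {v}).relIndex C := by
    rw [← inf_relIndex_right, ← hK, ← relIndex_bot_left C,
      ← relIndex_mul_relIndex ⊥ K C bot_le (hK ▸ inf_le_right), relIndex_bot_left]
    exact Nat.mul_le_mul_right _ hKcard
  have h2 : S.relIndex L ≤ (rootSet q C Z).ncard :=
    relIndex_le_ncard (fun l => l * t * l⁻¹) _ (Set.toFinite _)
      (fun l hl => h.root_conj_mem hD hl ⟨htC, htZ, htq⟩)
      fun l hl l' hl' e => ⟨L.mul_mem (L.inv_mem hl) hl', mem_centralizer_singleton_iff.2 (by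
        calc l⁻¹ * l' * t = l⁻¹ * (l' * t * l'⁻¹) * l' := by group
          _ = l⁻¹ * (l * t * l⁻¹) * l' := by rw [← e]
          _ = t * (l⁻¹ * l') := by group)⟩
  have hT : 2 * (rootSet q C Z).ncard ≤ Nat.card C := by
    rcases h.hsplit hq with htwo | ⟨u, hu, huu⟩
    · -- disjoint pieces of `C`
      set T := rootSet q C Z with hTdef
      set T' := (fun x => t * x) '' (T \ {t, z * t}) with hT'
      have hd1 : Disjoint T T' := by
        rw [Set.disjoint_left]
        rintro _ hT1 ⟨x, ⟨hx, hxne⟩, rfl⟩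
        obtain ⟨-, hnotZ, hsq⟩ := hT1
        refine hnotZ ?_
        have hxx : x * x = 1 := by rw [← pow_two, ← hq, hx.2.2]
        rw [hq, pow_two] at hsq
        refine hno t ⟨htC, htZ, htq⟩ x hx ?_
        show t * x = x * t
        have h7 := inv_eq_of_mul_eq_one_right hsq
        rw [mul_inv_rev, inv_eq_of_mul_eq_one_right hxx, inv_eq_of_mul_eq_one_right htt] at h7
        exact h7.symm
      have hTC : T ⊆ (C : Set G) := fun x hx => hx.1
      have hT'C : T' ⊆ (C : Set G) := by
        rintro _ ⟨x, hx, rfl⟩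
        exact mul_mem htC hx.1.1
      have hd2 : Disjoint (T ∪ T') (Z : Set G) := by
        rw [Set.disjoint_left]
        rintro _ (hx | ⟨x, ⟨hx, hxne⟩, rfl⟩) hxZ
        · exact hx.2.1 hxZ
        · refine hxne ?_
          simp only at hxZ
          rcases htwo _ hxZ with e | e
          · left
            calc x = t * t * x := by rw [htt, one_mul]
              _ = t := by rw [mul_assoc, e, mul_one]
          · right
            calc x = t * t * x := by rw [htt, one_mul]
              _ = z * t := by rw [mul_assoc, e]; exact h.hzQ t htQ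
      have hTC' : (T ∪ T' ∪ (Z : Set G)).ncard ≤ Nat.card C := by
        rw [← SetLike.coe_sort_coe, Nat.card_coe_set_eq]
        exact Set.ncard_le_ncard (Set.union_subset (Set.union_subset hTC hT'C) h.hZC) (Set.toFinite _)
      rw [Set.ncard_union_eq hd2, Set.ncard_union_eq hd1] at hTC'
      have hT'card : T'.ncard = (T \ {t, z * t}).ncard :=
        Set.ncard_image_of_injective _ (mul_right_injective t)
      have hZcard : 2 ≤ (Z : Set G).ncard :=
        (Set.one_lt_ncard (Set.toFinite _)).2 ⟨1, one_mem Z, z, h.hzZ, h.hz1.symm⟩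
      have h3 := Set.le_ncard_sdiff ({t, z * t} : Set G) T (Set.toFinite _)
      have h4 : ({t, z * t} : Set G).ncard ≤ 2 := le_trans (Set.ncard_insert_le _ _) (by simp)
      omega
    · have h4 : orderOf u = 2 ^ 2 := by
        have := Fact.mk Nat.prime_two
        refine orderOf_eq_prime_pow ?_ ?_
        · rw [pow_one, pow_two, huu]; exact h.hz1
        · rw [pow_succ, pow_mul, pow_one, pow_two u, huu, pow_two, hz2]
      have h5 : 4 ≤ Nat.card Z := by
        calc 4 = Nat.card (zpowers u) := by rw [Nat.card_zpowers, h4]; norm_num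
          _ ≤ Nat.card Z := Subgroup.card_le_of_le (zpowers_le.2 hu)
      have h6 : Z.relIndex C * Nat.card Z = Nat.card C := by
        rw [← Subgroup.index_mul_card (Z.subgroupOf C),
          Nat.card_congr (Subgroup.subgroupOfEquivOfLe h.hZC).toEquiv]
        rfl
      calc 2 * (rootSet q C Z).ncard ≤ 2 * (q * Z.relIndex C) :=
            Nat.mul_le_mul_left _ (h.root_card_le hD.hq)
        _ = Z.relIndex C * 4 := by rw [hq]; ring
        _ ≤ Z.relIndex C * Nat.card Z := Nat.mul_le_mul_left _ h5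
        _ = Nat.card C := h6
  refine sq_le_of_lt ?_ Nat.card_pos hw2
  refine Nat.le_of_mul_le_mul_right ?_ (Nat.card_pos (α := C))
  calc r * Nat.card C ≤ r * (2 * (S ⊓ centralizer {v}).relIndex C) := Nat.mul_le_mul_left _ hCle
    _ = 2 * (r * (S ⊓ centralizer {v}).relIndex C) := by ring
    _ ≤ 2 * ((rootSet q C Z).ncard * (w - 1)) :=
        Nat.mul_le_mul_left _ (le_trans h1 (Nat.mul_le_mul_right _ h2))
    _ ≤ Nat.card C * (w - 1) := by rw [← mul_assoc]; exact Nat.mul_le_mul_right _ hT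
    _ = (w - 1) * Nat.card C := mul_comm _ _

theorem bound (hD : OpData p q a r P Q L M) (hlog : 15625 * a ^ 24 ≤ p ^ a) {k y : G} (hk : k ∈ Q)
    (hk1 : k ≠ 1) (hy : y ∈ P) (hy1 : y ≠ 1) (hky : Commute k y)
    {c₀ d₀ : G} (hc₀ : c₀ ∈ C) (hd₀ : d₀ ∈ C) (hne : d₀ * c₀ ≠ c₀ * d₀) :
    (r + 1) ^ 2 ≤ p ^ a := by
  have := Fact.mk hD.hp
  have ha : 1 ≤ a := by
    rcases Nat.eq_zero_or_pos a with e | e
    · exact absurd (Subgroup.eq_bot_of_card_eq P (by rw [hD.hcard, e, pow_zero])) hD.hPne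
    · exact e
  have hidx : Z.relIndex C ≤ a ^ 2 :=
    relIndex_le_sq hD.hcomm hD.hexp hD.hcard hD.hPne (le_trans h.hCQ (le_trans hD.hQL hD.hLP))
      (fun u hu c hc => (h.hZc u hu c hc).symm) h.hZfree
      (fun c hc d hd => h.hcl d (h.hCQ hd) c hc)
      (fun c hc hcZ => by
        obtain ⟨d, hd, hde⟩ := h.hconjz c hc hcZ 1
        refine ⟨d, hd, fun e => h.hz1 ?_⟩
        rw [e, mul_inv_cancel_right, pow_one] at hde
        exact mul_eq_right.1 hde.symm)
  obtain ⟨t, ht⟩ := h.exists_root hD.hq hD.hQ hk hk1 hy hy1 hky hc₀ hd₀ hne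
  by_cases hq : q = 2
  · by_cases hp : ∃ t ∈ rootSet q C Z, ∃ u ∈ rootSet q C Z, Commute t u ∧ t * u ∉ Z
    · obtain ⟨t, ht, u, hu, htu, htuZ⟩ := hp
      exact h.bound_pair hD hlog ha hq hidx ht hu htu htuZ
    · push Not at hp
      exact h.bound_nopair hD hq ht hp
  · exact h.bound_odd hD hlog ha hq hidx ht

end CentreData

end Cfsg.Agent.Derange
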