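import Cfsg.Agent.Derange.Critical
import Cfsg.Agent.Derange.NonabelianBound

/-!
# Operators with fixed points force a small index
-/

set_option autoImplicit false
set_option maxHeartbeats 800000

namespace Cfsg.Agent.Derange

open Subgroup

variable {G : Type*} [Group G] [Finite G] {p q a r : ℕ} {P Q L M : Subgroup G}

/-- The symplectic type case. -/
theorem OpData.bound_of_fixed (hD : OpData p q a r P Q L M) (hlog : 15625 * a ^ 24 ≤ p ^ a)
    {k y : G} (hk : k ∈ Q) (hk1 : k ≠ 1) (hy : y ∈ P) (hy1 : y ≠ 1) (hky : Commute k y) :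
    (r + 1) ^ 2 ≤ p ^ a := by
  classical
  have hq' := Fact.mk hD.hq
  have hp' := Fact.mk hD.hp
  have hcopq : p.Coprime q := (Nat.coprime_primes hD.hp hD.hq).2 hD.hpq
  by_contra hbad
  -- every normalized abelian subgroup acts freely
  have hfree : ∀ A ≤ Q, (∀ l ∈ L, ∀ x ∈ A, l * x * l⁻¹ ∈ A) → (∀ x ∈ A, ∀ y ∈ A, x * y = y * x) →
      ∀ t ∈ A, t ≠ 1 → ∀ v ∈ P, v ≠ 1 → ¬ Commute t v :=
    fun A hA hAL hAc t ht ht1 v hv hv1 htv => hbad (hD.reducible hA hAL hAc ht ht1 hv hv1 htv)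
  obtain ⟨C, hCQ, hLC, hcl, hcpow, hself⟩ := exists_critical_in hD.hQ hD.hLQ
  set Z := fixIn C C with hZdef
  have hZC : Z ≤ C := inf_le_left
  have hZc : ∀ u ∈ Z, ∀ c ∈ C, c * u = u * c := fun u hu c hc => (mem_fixIn.1 hu).2 c hc
  have hLZ : ∀ l ∈ L, ∀ x ∈ Z, l * x * l⁻¹ ∈ Z := by
    intro l hl x hx
    refine mem_fixIn.2 ⟨hLC l hl x hx.1, fun c hc => ?_⟩
    have h1 := hZc x hx (l⁻¹ * c * l⁻¹⁻¹) (hLC _ (inv_mem hl) c hc)
    calc c * (l * x * l⁻¹) = l * ((l⁻¹ * c * l⁻¹⁻¹) * x) * l⁻¹ := by group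
      _ = l * (x * (l⁻¹ * c * l⁻¹⁻¹)) * l⁻¹ := by rw [h1]
      _ = l * x * l⁻¹ * c := by group
  have hQP : Q ≤ normalizer (P : Set G) := le_trans hD.hQL hD.hLP
  have hZfree : ∀ u ∈ Z, u ≠ 1 → ∀ v ∈ P, v ≠ 1 → ¬ Commute u v :=
    hfree Z (le_trans hZC hCQ) hLZ (fun x hx y hy => (hZc y hy x (hZC hx)))
  have hkC : k ∈ Z → False := fun h => hZfree k h hk1 y hy hy1 hky
  -- the centre is cyclic
  obtain ⟨h₀, hh₀, hZh⟩ := isCyclic_of_unique (q := q) (A := Z) (hD.hQ.to_le (le_trans hZC hCQ))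
    (fun x hx y hy => hZc y hy x (hZC hx)) (fun x hx u hu hxq hx1 huq => by
      by_contra hmem
      rcases exists_fixed_of_pair hD.hcomm hD.hPne hD.hexp hcopq
        (hQP (hCQ (hZC hu))) (hQP (hCQ (hZC hx))) (hZc x hx u (hZC hu)) huq hxq with
        ⟨v, hv, hv1, hc⟩ | ⟨i, v, hv, hv1, hc⟩
      · exact hZfree x hx hx1 v hv hv1 hc
      · refine hZfree (u * x ^ i) (mul_mem hu (pow_mem hx i)) (fun e => hmem ?_) v hv hv1 hc
        rw [eq_inv_of_mul_eq_one_left e]
        exact inv_mem (pow_mem (mem_zpowers x) i))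
  have hcomm' : ∀ c ∈ C, c ∉ Z → ∃ d ∈ C, d * c ≠ c * d := by
    intro c hc hcZ
    by_contra hno
    push Not at hno
    exact hcZ (mem_fixIn.2 ⟨hc, hno⟩)
  have hh₁ : h₀ ≠ 1 := by
    intro e
    rw [e, zpowers_one_eq_bot] at hZh
    have hC1 : ∀ c ∈ C, c = 1 := by
      intro c hc
      by_contra hc1
      obtain ⟨d, hd, hne⟩ := hcomm' c hc (by rw [hZh, mem_bot]; exact hc1)
      have h1 := hcl d (hCQ hd) c hc
      rw [hZh, mem_bot, mul_inv_eq_one, mul_inv_eq_iff_eq_mul] at h1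
      exact hne h1
    exact hk1 (hC1 k (hself k hk fun c hc => by rw [hC1 c hc, one_mul, mul_one]))
  obtain ⟨l₀, hl₀⟩ : ∃ l₀, orderOf h₀ = q ^ (l₀ + 1) := by
    obtain ⟨n, hn⟩ := IsPGroup.iff_orderOf.1 hD.hQ ⟨h₀, hCQ (hZC hh₀)⟩
    rw [Subgroup.orderOf_mk] at hn
    cases n with
    | zero => exact absurd (orderOf_eq_one_iff.1 hn) hh₁
    | succ n => exact ⟨n, hn⟩
  set z := h₀ ^ q ^ l₀ with hz
  have hzord : orderOf z = q := by
    rw [hz, orderOf_pow_of_dvd (pow_ne_zero _ hD.hq.ne_zero) (hl₀ ▸ pow_dvd_pow q (by omega)), hl₀,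
      Nat.pow_div (by omega) hD.hq.pos, show l₀ + 1 - l₀ = 1 by omega, pow_one]
  have hzZ : z ∈ Z := pow_mem hh₀ _
  have hz1 : z ≠ 1 := fun e => hD.hq.ne_one (by rw [← hzord, e, orderOf_one])
  have hzq : z ^ q = 1 := hzord ▸ pow_orderOf_eq_one z
  have hzfree : ∀ v ∈ P, Commute z v → v = 1 := fun v hv hc => by
    by_contra hv1; exact hZfree z hzZ hz1 v hv hv1 hc
  have hzpow : ∀ i : ℕ, z ^ i = 1 ↔ q ∣ i := fun i => by
    rw [← orderOf_dvd_iff_pow_eq_one, hzord]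
  have hzpowfree : ∀ i : ℕ, ¬ q ∣ i → ∀ v ∈ P, Commute (z ^ i) v → v = 1 := fun i hi v hv hc => by
    by_contra hv1
    exact hZfree (z ^ i) (pow_mem hzZ i) (fun e => hi ((hzpow i).1 e)) v hv hv1 hc
  -- elements of order `q` of the centre
  have huniq : ∀ u ∈ Z, u ^ q = 1 → ∃ i < q, u = z ^ i := by
    intro u hu huq
    rw [hZh] at hu
    obtain ⟨j, rfl⟩ := mem_zpowers_iff.1 hu
    rw [← zpow_natCast, ← zpow_mul] at huq
    have h1 := orderOf_dvd_iff_zpow_eq_one.2 huq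
    rw [hl₀] at h1
    push_cast at h1
    rw [pow_succ] at h1
    obtain ⟨i, rfl⟩ := Int.dvd_of_mul_dvd_mul_right (Int.natCast_ne_zero.2 hD.hq.ne_zero) h1
    refine ⟨(i % q).toNat, ?_, ?_⟩
    · have := Int.emod_lt_of_pos i (show (0 : ℤ) < q by exact_mod_cast hD.hq.pos)
      have := Int.emod_nonneg i (Int.natCast_ne_zero.2 hD.hq.ne_zero)
      omega
    · rw [← zpow_natCast z, Int.toNat_of_nonneg (Int.emod_nonneg i (Int.natCast_ne_zero.2 hD.hq.ne_zero)),
        show (q : ℤ) = (orderOf z : ℤ) by rw [hzord], zpow_mod_orderOf, hzord, hz, ← zpow_natCast,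
        ← zpow_mul]
      push_cast
      rfl
  -- `z` is central in `Q`
  have hzQ : ∀ x ∈ Q, x * z = z * x := by
    intro x hx
    obtain ⟨j, -, hj⟩ := huniq _ (hLZ x (hD.hQL hx) z hzZ) (by rw [conj_pow, hzq]; group)
    have hn : ∀ n : ℕ, x ^ n * z * (x ^ n)⁻¹ = z ^ (j ^ n) := by
      intro n
      induction n with
      | zero => simp
      | succ n ih =>
        calc x ^ (n + 1) * z * (x ^ (n + 1))⁻¹ = x ^ n * (x * z * x⁻¹) * (x ^ n)⁻¹ := by
              rw [pow_succ]; group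
          _ = (x ^ n * z * (x ^ n)⁻¹) ^ j := by rw [hj, conj_pow]
          _ = z ^ (j ^ (n + 1)) := by rw [ih, ← pow_mul, ← pow_succ]
    obtain ⟨m, hm⟩ := IsPGroup.iff_orderOf.1 hD.hQ ⟨x, hx⟩
    rw [Subgroup.orderOf_mk] at hm
    have h1 := hn (q ^ m)
    rw [← hm, pow_orderOf_eq_one, inv_one, mul_one, one_mul, hm] at h1
    have h2 : (j ^ q ^ m) % q = 1 % q := by
      have h3 : z ^ (j ^ q ^ m) = z ^ 1 := by rw [pow_one]; exact h1.symm
      have := pow_eq_pow_iff_modEq.1 h3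
      rw [hzord] at this
      exact this
    have h3 : (j : ZMod q) = 1 := by
      have h4 := (ZMod.natCast_eq_natCast_iff' _ _ q).2 h2
      push_cast at h4
      rwa [ZMod.pow_card_pow] at h4
    have h4 : j ≡ 1 [MOD q] := (ZMod.natCast_eq_natCast_iff _ _ q).1 (by simpa using h3)
    have h5 : z ^ j = z := by
      conv_rhs => rw [← pow_one z]
      exact pow_eq_pow_iff_modEq.2 (hzord.symm ▸ h4)
    rw [h5] at hj
    exact mul_inv_eq_iff_eq_mul.1 hj
  -- conjugates by `C` of noncentral elements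
  have hconjz : ∀ c ∈ C, c ∉ Z → ∀ i : ℕ, ∃ d ∈ C, d * c * d⁻¹ = z ^ i * c := by
    intro c hc hcZ i
    obtain ⟨d, hd, hne⟩ := hcomm' c hc hcZ
    set u := d * c * d⁻¹ * c⁻¹ with hu
    have huZ : u ∈ Z := hcl d (hCQ hd) c hc
    have huc : Commute u c := (hZc u huZ c hc).symm
    have huq : u ^ q = 1 := by
      have h1 : (u * c) ^ q = d * c ^ q * d⁻¹ := by rw [← conj_pow, hu]; group
      rw [huc.mul_pow, hZc _ (hcpow c hc) d hd, mul_inv_cancel_right] at h1
      exact mul_eq_right.1 h1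
    obtain ⟨j, hjq, hj⟩ := huniq u huZ huq
    have hj0 : ¬ q ∣ j := fun hdvd => hne (by
      have h1 : u = 1 := by rw [hj, (hzpow j).2 hdvd]
      rw [hu, mul_inv_eq_one, mul_inv_eq_iff_eq_mul] at h1
      exact h1)
    obtain ⟨n, hn⟩ : ∃ n : ℕ, ((n : ZMod q)) * (j : ZMod q) = (i : ZMod q) :=
      ⟨((i : ZMod q) * (j : ZMod q)⁻¹).val, by
        rw [ZMod.natCast_zmod_val, mul_assoc,
          inv_mul_cancel₀ (fun e => hj0 ((ZMod.natCast_eq_zero_iff j q).1 e)), mul_one]⟩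
    refine ⟨d ^ n, pow_mem hd n, ?_⟩
    have hn' : ∀ m : ℕ, d ^ m * c * (d ^ m)⁻¹ = u ^ m * c := by
      intro m
      induction m with
      | zero => simp
      | succ m ih =>
        calc d ^ (m + 1) * c * (d ^ (m + 1))⁻¹ = d ^ m * (d * c * d⁻¹) * (d ^ m)⁻¹ := by
              rw [pow_succ]; group
          _ = d ^ m * u * c * (d ^ m)⁻¹ := by rw [hu]; group
          _ = u * (d ^ m * c * (d ^ m)⁻¹) := by
              rw [hZc u huZ _ (pow_mem hd m)]; group
          _ = u ^ (m + 1) * c := by rw [ih, pow_succ', ← mul_assoc]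
    rw [hn', hj, ← pow_mul]
    congr 1
    refine pow_eq_pow_iff_modEq.2 ?_
    rw [hzord, ← ZMod.natCast_eq_natCast_iff]
    push_cast
    rw [← hn, mul_comm]
  have hfixconj : ∀ {t t' d : G}, d ∈ L → d * t * d⁻¹ = t' →
      Nat.card (fixIn P (zpowers t')) = Nat.card (fixIn P (zpowers t)) := by
    intro t t' d hd e
    refine hD.card_fixIn_conj hd fun b => ?_
    have h1 : zpowers t' = (zpowers t).map (MulAut.conj d).toMonoidHom := by
      rw [MonoidHom.map_zpowers]; exact congrArg zpowers e.symm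
    rw [h1, mem_map]
    simp only [MulEquiv.coe_toMonoidHom, MulAut.conj_apply]
    exact ⟨fun ⟨x, hx, hxe⟩ => by rw [← hxe]; simpa [mul_assoc] using hx,
      fun hb => ⟨_, hb, by group⟩⟩
  have hzpC : zpowers z ≤ M := zpowers_le.2 (hD.hQM (hCQ (hZC hzZ)))
  by_cases hCZ : C ≤ Z
  · -- the cyclic case
    have hCcyc : C = zpowers h₀ := le_antisymm (hZh ▸ hCZ) (zpowers_le.2 (hZC hh₀))
    have hCfree : ∀ c ∈ C, ∀ v ∈ P, v ≠ 1 → Commute c v → c = 1 := fun c hc v hv hv1 hcv => by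
      by_contra hc1; exact hZfree c (hCZ hc) hc1 v hv hv1 hcv
    obtain ⟨c₁, hc₁, hc₁'⟩ : ∃ c ∈ C, k * c ≠ c * k := by
      by_contra hno
      push Not at hno
      exact hkC (hCZ (hself k hk fun c hc => (hno c hc).symm))
    set u := k * c₁ * k⁻¹ * c₁⁻¹ with hu
    have huC : u ∈ C := hZC (hcl k hk c₁ hc₁)
    have hu1 : u ≠ 1 := by
      rw [hu, Ne, mul_inv_eq_one, mul_inv_eq_iff_eq_mul]; exact hc₁'
    obtain ⟨i, hi⟩ : ∃ i : ℕ, u ^ i = z := by
      obtain ⟨n, hn⟩ := IsPGroup.iff_orderOf.1 hD.hQ ⟨u, hCQ huC⟩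
      rw [Subgroup.orderOf_mk] at hn
      cases n with
      | zero => exact absurd (orderOf_eq_one_iff.1 hn) hu1
      | succ n =>
        obtain ⟨j, hjq, hj⟩ := huniq (u ^ q ^ n) (pow_mem (hCZ huC) _)
          (by rw [← pow_mul, ← pow_succ, ← hn, pow_orderOf_eq_one])
        have hj0 : ¬ q ∣ j := by
          intro hdvd
          rw [(hzpow j).2 hdvd, ← orderOf_dvd_iff_pow_eq_one, hn] at hj
          exact absurd ((Nat.pow_dvd_pow_iff_le_right hD.hq.one_lt).1 hj) (by omega)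
        refine ⟨q ^ n * ((j : ZMod q)⁻¹).val, ?_⟩
        rw [pow_mul, hj, ← pow_mul]
        conv_rhs => rw [← pow_one z]
        refine pow_eq_pow_iff_modEq.2 ?_
        rw [hzord, ← ZMod.natCast_eq_natCast_iff]
        push_cast
        rw [ZMod.natCast_zmod_val,
          mul_inv_cancel₀ (fun e => hj0 ((ZMod.natCast_eq_zero_iff j q).1 e))]
    have hCab : ∀ c ∈ C, ∀ d ∈ C, c * d = d * c := fun c hc d hd => hZc d (hCZ hd) c hc
    have hcz : ∀ m : ℕ, k * c₁ ^ m * k⁻¹ = u ^ m * c₁ ^ m := by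
      intro m
      rw [← conj_pow, show k * c₁ * k⁻¹ = u * c₁ by rw [hu]; group,
        Commute.mul_pow (hCab u huC c₁ hc₁)]
    have hkz : (c₁ ^ i)⁻¹ * k * (c₁ ^ i)⁻¹⁻¹ = k * z := by
      have h1 := hcz i
      rw [hi, mul_inv_eq_iff_eq_mul] at h1
      rw [inv_inv]
      calc (c₁ ^ i)⁻¹ * k * c₁ ^ i = (c₁ ^ i)⁻¹ * (k * c₁ ^ i) := by group
        _ = (c₁ ^ i)⁻¹ * (z * c₁ ^ i) * k := by rw [h1]; group
        _ = z * k := by rw [← hZc z hzZ _ (pow_mem hc₁ i)]; group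
        _ = k * z := (hzQ k hk).symm
    let w := Nat.card (fixIn P (zpowers k))
    have hw2 : w ^ 2 ≤ p ^ a := by
      have hcard2 : w ^ Nat.card Bool ≤ Nat.card P := card_family_le hD.hcomm
        (fun b : Bool => zpowers (if b then k else k * z)) (fun b => by
          refine le_trans (zpowers_le.2 ?_) hQP
          cases b <;> simp [hk, mul_mem hk (hCQ (hZC hzZ))])
        (fun b b' x hx x' hx' => by
          rw [zpowers_eq_closure] at hx hx'
          refine comm_of_generators ?_ hx hx'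
          intro s hs s' hs'
          rw [Set.mem_singleton_iff] at hs hs'
          subst hs hs'
          have e : k * (k * z) = k * z * k := by rw [mul_assoc, hzQ k hk]
          cases b <;> cases b' <;> simp [e])
        (fun b b' hne => by
          refine (eq_bot_iff_forall _).2 fun v hv => ?_
          obtain ⟨h1, h2⟩ := mem_inf.1 hv
          rw [fixIn_zpowers] at h1 h2
          refine hzfree v h1.1 ?_
          have key : k * v = v * k → k * z * v = v * (k * z) → z * v = v * z := by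
            intro e1 e2
            rw [← mul_right_inj k, ← mul_assoc, e2, ← mul_assoc, ← e1, mul_assoc]
          cases b <;> cases b' <;> simp at hne h1 h2
          · exact key h2.2 h1.2
          · exact key h1.2 h2.2)
        (fun b => hD.coprime (zpowers_le.2 (by
          cases b <;> simp [hk, mul_mem hk (hCQ (hZC hzZ))])))
        (fun b => by
          cases b
          · exact le_of_eq (hfixconj (hD.hQL (hCQ (inv_mem (pow_mem hc₁ i)))) hkz).symm
          · exact le_rfl)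
      rwa [Nat.card_eq_fintype_card, Fintype.card_bool, hD.hcard] at hcard2
    -- conjugates of `k` act on `C` as `k` does
    have hTsub : ∀ l ∈ L, l * k * l⁻¹ ∈ (fun c => k * c) '' (C : Set G) := by
      intro l hl
      have hx : k⁻¹ * (l * k * l⁻¹) ∈ Q := mul_mem (inv_mem hk) (hD.hLQ l hl k hk)
      refine ⟨k⁻¹ * (l * k * l⁻¹), hself _ hx fun c hc => ?_, by simp⟩
      obtain ⟨s, hs⟩ : ∃ s : ℤ, h₀ ^ s = k * h₀ * k⁻¹ :=
        mem_zpowers_iff.1 (hCcyc ▸ hLC k (hD.hQL hk) h₀ (hZC hh₀))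
      have hact : ∀ c ∈ C, k * c * k⁻¹ = c ^ s := by
        intro c hc
        obtain ⟨j, rfl⟩ := mem_zpowers_iff.1 (hCcyc ▸ hc)
        rw [← conj_zpow, ← hs, ← zpow_mul, ← zpow_mul, mul_comm]
      have hc' := hLC _ (inv_mem hl) c hc
      have h1 : (l * k * l⁻¹) * c * (l * k * l⁻¹)⁻¹ = c ^ s := by
        calc (l * k * l⁻¹) * c * (l * k * l⁻¹)⁻¹
            = l * (k * (l⁻¹ * c * l⁻¹⁻¹) * k⁻¹) * l⁻¹ := by group
          _ = (l * (l⁻¹ * c * l⁻¹⁻¹) * l⁻¹) ^ s := by rw [hact _ hc']; exact conj_zpow.symm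
          _ = c ^ s := by group
      have h2 := hact c hc
      rw [← h1] at h2
      calc c * (k⁻¹ * (l * k * l⁻¹)) = k⁻¹ * (k * c * k⁻¹) * (l * k * l⁻¹) := by group
        _ = k⁻¹ * (l * k * l⁻¹ * c * (l * k * l⁻¹)⁻¹) * (l * k * l⁻¹) := by rw [h2]
        _ = k⁻¹ * (l * k * l⁻¹) * c := by group
    have hyW : y ∈ fixIn P (zpowers k) := (fixIn_zpowers P k).2 ⟨hy, hky.eq⟩
    let S := L ⊓ centralizer {k}
    have h1 := hD.index_bound (S := S) (R := C) (W := fixIn P (zpowers k)) inf_le_left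
      (le_trans hCQ hD.hQM) hy hy1 (fun l hl => hD.conj_mem_fixIn hl.1 (fun b hb => by
        obtain ⟨j, rfl⟩ := mem_zpowers_iff.1 hb
        have := (Commute.zpow_right (show Commute l k from mem_centralizer_singleton_iff.1 hl.2) j).eq
        rw [mul_assoc, ← this, inv_mul_cancel_left]
        exact zpow_mem (mem_zpowers k) j) hyW)
    have h2 : S.relIndex L ≤ Nat.card C := by
      refine le_trans (relIndex_le_ncard (fun l => l * k * l⁻¹) _ (Set.toFinite _) hTsub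
        fun l hl l' hl' e => ⟨L.mul_mem (L.inv_mem hl) hl', mem_centralizer_singleton_iff.2 ?_⟩) ?_
      · calc l⁻¹ * l' * k = l⁻¹ * (l' * k * l'⁻¹) * l' := by group
          _ = l⁻¹ * (l * k * l⁻¹) * l' := by rw [← e]
          _ = k * (l⁻¹ * l') := by group
      · refine le_trans (Set.ncard_image_le (Set.toFinite _)) ?_
        rw [← Nat.card_coe_set_eq]
        exact le_rfl
    have h3 : (S ⊓ centralizer {y}).relIndex C = Nat.card C := by
      rw [← inf_relIndex_right, show (S ⊓ centralizer {y}) ⊓ C = ⊥ from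
        (eq_bot_iff_forall _).2 fun c hc => hCfree c hc.2 y hy hy1
          (mem_centralizer_singleton_iff.1 hc.1.2), relIndex_bot_left]
    rw [h3] at h1
    refine hbad (sq_le_of_lt ?_ Nat.card_pos hw2)
    refine Nat.le_of_mul_le_mul_right ?_ (Nat.card_pos (α := C))
    calc r * Nat.card C ≤ S.relIndex L * (w - 1) := h1
      _ ≤ (w - 1) * Nat.card C := by rw [mul_comm (w - 1)]; exact Nat.mul_le_mul_right _ h2
  · obtain ⟨c₀, hc₀, hc₀Z⟩ := SetLike.not_le_iff_exists.1 hCZ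
    obtain ⟨d₀, hd₀, hcd₀⟩ := hcomm' c₀ hc₀ hc₀Z
    have hsplit : q = 2 → (∀ u ∈ Z, u = 1 ∨ u = z) ∨ ∃ u ∈ Z, u * u = z := by
      intro hq2
      rcases Nat.eq_zero_or_pos l₀ with hl0 | hlpos
      · left
        intro u hu
        obtain ⟨i, hi, rfl⟩ := huniq u hu (by
          have hzh : z = h₀ := by rw [hz, hl0, pow_zero, pow_one]
          rw [hZh, ← hzh] at hu
          obtain ⟨j, rfl⟩ := mem_zpowers_iff.1 hu
          rw [← zpow_natCast, ← zpow_mul, mul_comm, zpow_mul, zpow_natCast, hzq, one_zpow])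
        rw [hq2] at hi
        interval_cases i <;> simp
      · right
        refine ⟨h₀ ^ q ^ (l₀ - 1), pow_mem hh₀ _, ?_⟩
        rw [hz, ← pow_add, hq2, ← two_mul, ← pow_succ', Nat.sub_add_cancel hlpos]
    have hC : CentreData q P Q L C Z z :=
      ⟨hCQ, hLC, hcl, hcpow, hself, hZC, hZc, hzZ, hzq, hz1, hzfree, hzpowfree, huniq, hzQ, hconjz,
        ⟨h₀, hh₀, hZh⟩, fun {k' y'} hk' hy' hy1' hc => by_contra fun hne => hZfree k' hk' hne y' hy' hy1' hc, hsplit, fun u hu hu1 => hZfree u hu hu1⟩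
    exact hbad (hC.bound hD hlog hk hk1 hy hy1 hky hc₀ hd₀ hcd₀)

end Cfsg.Agent.Derange
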