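import Cfsg.Agent.Derange.SylowStep
import Cfsg.Agent.Derange.Symplectic

/-!
# A regular Sylow subgroup of the derangement subgroup
-/

set_option autoImplicit false

namespace Cfsg.Agent.Derange

open MulAction Subgroup

variable {G Ω : Type*} [Group G] [Finite G] [MulAction G Ω] [Finite Ω] [FaithfulSMul G Ω]

/-- `P` is a regular Sylow `p`-subgroup of `D`. -/
structure RegConf (D P : Subgroup G) (a : Ω) (p k : ℕ) : Prop where
  setting : Setting D Ω
  hr : 2 ≤ D.index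
  hp : p.Prime
  hn : Nat.card Ω = p ^ k
  hn4 : 4 ≤ Nat.card Ω
  hPD : P ≤ D
  hPcard : Nat.card P = Nat.card Ω
  hPtrans : ∀ x y : Ω, ∃ u ∈ P, u • x = y
  hcop : ¬ p ∣ Nat.card (D ⊓ stabilizer G a : Subgroup G)

variable {D P : Subgroup G} {a : Ω} {p k : ℕ}

namespace RegConf

variable (h : RegConf D P a p k)
include h

omit [FaithfulSMul G Ω] in
theorem bijective (x : Ω) : Function.Bijective (fun u : P => (u : G) • x) := by
  rw [Nat.bijective_iff_surjective_and_card]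
  exact ⟨fun y => let ⟨u, hu, e⟩ := h.hPtrans x y; ⟨⟨u, hu⟩, e⟩, h.hPcard⟩

omit [FaithfulSMul G Ω] in
theorem eq_of_smul {u v : G} (hu : u ∈ P) (hv : v ∈ P) (x : Ω) (e : u • x = v • x) : u = v :=
  congrArg Subtype.val ((h.bijective x).1 (a₁ := ⟨u, hu⟩) (a₂ := ⟨v, hv⟩) e)

omit [FaithfulSMul G Ω] in
theorem eq_one_of_smul {u : G} (hu : u ∈ P) (x : Ω) (e : u • x = x) : u = 1 :=
  h.eq_of_smul hu (one_mem P) x (by rw [e, one_smul])

omit [FaithfulSMul G Ω] in
theorem isPGroup : IsPGroup p P := IsPGroup.of_card (n := k) (h.hPcard.trans h.hn)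

omit [FaithfulSMul G Ω] in
theorem relIndex_P : P.relIndex D = Nat.card (D ⊓ stabilizer G a : Subgroup G) := by
  have h1 := card_eq_relIndex_mul h.hPD
  rw [h.setting.card_eq a, h.hPcard] at h1
  exact (Nat.eq_of_mul_eq_mul_left (by have := h.hn4; omega) h1).symm

omit [FaithfulSMul G Ω] in
theorem cover_normalizer : D ⊔ normalizer (P : Set G) = ⊤ := by
  have := Fact.mk h.hp
  have h1 := frattini_cover (q := p) (M := ⊤) h.setting.normal (le_refl ⊤) (sup_top_eq D) (K := D)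
    (R := P) (by simp) h.hPD h.isPGroup (by rw [h.relIndex_P]; exact h.hcop)
    (fun g _ x hx => h.setting.normal.conj_mem x hx g)
  rwa [top_inf_eq] at h1

omit [FaithfulSMul G Ω] in
theorem cover : D ⊔ (normalizer (P : Set G) ⊓ stabilizer G a) = ⊤ := by
  refine eq_top_iff.2 (le_trans h.cover_normalizer.ge (sup_le le_sup_left fun g hg => ?_))
  obtain ⟨u, hu, hua⟩ := h.hPtrans a (g • a)
  rw [show g = u * (u⁻¹ * g) by group]
  refine mul_mem (mem_sup_left (h.hPD hu))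
    (mem_sup_right ⟨(normalizer (P : Set G)).mul_mem (le_normalizer (inv_mem hu)) hg, ?_⟩)
  show (u⁻¹ * g) • a = a
  rw [mul_smul, ← hua, inv_smul_smul]

omit [FaithfulSMul G Ω] in
theorem conj_smul {g u : G} (hg : g • a = a) : (g * u * g⁻¹) • a = g • u • a := by
  rw [mul_smul, inv_smul_eq_iff.2 hg.symm, mul_smul]

/-- Invariant subgroups of `P` have order congruent to one modulo the index. -/
theorem invariant_subgroup {L W : Subgroup G} (hL : L ≤ normalizer (P : Set G) ⊓ stabilizer G a)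
    (hDL : D ⊔ L = ⊤) (hWP : W ≤ P) (hinv : ∀ l ∈ L, ∀ x ∈ W, l * x * l⁻¹ ∈ W) :
    D.index ∣ Nat.card W - 1 := by
  have h1 := h.setting.index_dvd_card (L := L) (a := a) (le_trans hL inf_le_right) hDL
    ((fun x : G => x • a) '' ((W : Set G) \ {1})) (fun ⟨x, hx, e⟩ =>
      hx.2 (h.eq_one_of_smul (hWP hx.1) a e))
    (fun g hg y hy => by
      obtain ⟨x, hx, rfl⟩ := hy
      exact ⟨g * x * g⁻¹, ⟨hinv g hg x hx.1, fun e => hx.2 (by simpa using e)⟩,
        h.conj_smul (hL hg).2⟩)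
  rw [Set.InjOn.ncard_image (fun x hx y hy e => h.eq_of_smul (hWP hx.1) (hWP hy.1) a e),
    Set.ncard_sdiff_singleton_of_mem (one_mem W), ← Nat.card_coe_set_eq] at h1
  exact h1

theorem bot_or_eq {L W : Subgroup G} (hL : L ≤ normalizer (P : Set G) ⊓ stabilizer G a)
    (hDL : D ⊔ L = ⊤) (hWP : W ≤ P) (hinv : ∀ l ∈ L, ∀ x ∈ W, l * x * l⁻¹ ∈ W)
    (hbad : ¬ (D.index + 1) ^ 2 ≤ Nat.card Ω) : W = ⊥ ∨ W = P := by
  by_contra hno
  push Not at hno
  obtain ⟨v, hv⟩ := Subgroup.card_dvd_of_le hWP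
  rw [h.hPcard] at hv
  have hv2 : 2 ≤ v := by
    by_contra hlt
    rcases Nat.eq_zero_or_pos v with rfl | hv0
    · have := h.hn4; omega
    · refine hno.2 (Subgroup.eq_of_le_of_card_ge hWP ?_)
      rw [h.hPcard, hv, show v = 1 by omega, mul_one]
  have hW2 : 2 ≤ Nat.card W := (Subgroup.one_lt_card_iff_ne_bot W).2 hno.1
  exact hbad (sq_le_of_dvd_factor hW2 hv2 hv.symm (h.invariant_subgroup hL hDL hWP hinv)
    (h.setting.index_dvd_sub_one a))

theorem elementary (hbad : ¬ (D.index + 1) ^ 2 ≤ Nat.card Ω) :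
    (∀ x ∈ P, ∀ y ∈ P, x * y = y * x) ∧ ∀ x ∈ P, x ^ p = 1 := by
  have := Fact.mk h.hp
  have : Nontrivial P := by
    rw [← Finite.one_lt_card_iff_nontrivial, h.hPcard]
    have := h.hn4; omega
  let W : Subgroup G :=
    { carrier := {x | x ∈ P ∧ (∀ y ∈ P, x * y = y * x) ∧ x ^ p = 1}
      one_mem' := ⟨one_mem P, fun y _ => by simp, one_pow p⟩
      mul_mem' := fun {x x'} hx hx' => ⟨P.mul_mem hx.1 hx'.1,
        fun y hy => ((show Commute x y from hx.2.1 y hy).mul_left (hx'.2.1 y hy)).eq,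
        by rw [Commute.mul_pow (hx.2.1 x' hx'.1), hx.2.2, hx'.2.2, one_mul]⟩
      inv_mem' := fun {x} hx => ⟨P.inv_mem hx.1,
        fun y hy => (show Commute x y from hx.2.1 y hy).inv_left.eq,
        by rw [inv_pow, hx.2.2, inv_one]⟩ }
  have hWP : W ≤ P := fun x hx => hx.1
  have hne : W ≠ ⊥ := by
    intro e
    have := IsPGroup.center_nontrivial h.isPGroup
    obtain ⟨j, hj⟩ := IsPGroup.iff_card.1 (h.isPGroup.to_subgroup (center P))
    have hdvd : p ∣ Nat.card (center P) := by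
      rcases Nat.eq_zero_or_pos j with rfl | hj0
      · rw [pow_zero] at hj
        exact absurd hj (Finite.one_lt_card_iff_nontrivial.2 this).ne'
      · rw [hj]; exact dvd_pow_self p (by omega)
    obtain ⟨c, hc⟩ := exists_prime_orderOf_dvd_card' p hdvd
    have hcW : ((c : P) : G) ∈ W := ⟨(c : P).2,
      fun y hy => (congrArg Subtype.val (Subgroup.mem_center_iff.1 c.2 ⟨y, hy⟩)).symm,
      (congrArg (fun t : center P => ((t : P) : G)) (hc ▸ pow_orderOf_eq_one c) :)⟩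
    rw [e, mem_bot] at hcW
    have hc1 : c = 1 := Subtype.ext (Subtype.ext hcW)
    rw [hc1, orderOf_one] at hc
    exact h.hp.ne_one hc.symm
  have hWeq : W = P := (h.bot_or_eq le_rfl h.cover hWP (fun l hl x hx => by
    have hn := Subgroup.mem_normalizer_iff.1 hl.1
    refine ⟨(hn x).1 hx.1, fun y hy => ?_, by rw [conj_pow, hx.2.2]; group⟩
    have h1 := hx.2.1 (l⁻¹ * y * l) ((hn _).2 (by simpa [mul_assoc] using hy))
    calc l * x * l⁻¹ * y = l * (x * (l⁻¹ * y * l)) * l⁻¹ := by group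
      _ = l * ((l⁻¹ * y * l) * x) * l⁻¹ := by rw [h1]
      _ = y * (l * x * l⁻¹) := by group) hbad).resolve_left hne
  exact ⟨fun x hx y hy => (hWeq.symm ▸ hx : x ∈ W).2.1 y hy,
    fun x hx => (hWeq.symm ▸ hx : x ∈ W).2.2⟩

/-- `P` is its own centralizer in the stabilizer. -/
theorem eq_one_of_commute {g : G} (hg : g • a = a) (hc : ∀ y ∈ P, Commute g y) : g = 1 := by
  refine FaithfulSMul.eq_of_smul_eq_smul fun x : Ω => ?_
  obtain ⟨u, hu, rfl⟩ := h.hPtrans a x
  rw [one_smul, smul_smul, (hc u hu).eq, mul_smul, hg]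

/-- An element of `D` fixing `a` and a nontrivial element of `P` forces the bound. -/
theorem bound_of_not_free (hlog : 15625 * k ^ 24 ≤ p ^ k)
    {g y : G} (hg : g ∈ D) (hga : g • a = a) (hgN : g ∈ normalizer (P : Set G)) (hg1 : g ≠ 1)
    (hy : y ∈ P) (hy1 : y ≠ 1) (hgy : Commute g y) :
    (D.index + 1) ^ 2 ≤ Nat.card Ω := by
  by_contra hbad
  obtain ⟨hcomm, hexp⟩ := h.elementary hbad
  have hn := h.setting.normal
  set H1 := normalizer (P : Set G) ⊓ stabilizer G a with hH1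
  set q := (orderOf g).minFac with hq
  have hog : orderOf g ≠ 1 := fun e => hg1 (orderOf_eq_one_iff.1 e)
  have := Fact.mk (Nat.minFac_prime hog)
  have hqdvd : q ∣ orderOf g := Nat.minFac_dvd _
  set k' := g ^ (orderOf g / q) with hk'
  have hk'o : orderOf k' = q := by
    rw [hk', orderOf_pow_of_dvd (Nat.div_pos (Nat.le_of_dvd (orderOf_pos g) hqdvd)
      (Nat.pos_of_ne_zero (Nat.minFac_prime hog).ne_zero)).ne' (Nat.div_dvd_of_dvd hqdvd),
      Nat.div_div_self hqdvd (orderOf_pos g).ne']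
  set K1 := D ⊓ H1 with hK1
  have hk'K1 : k' ∈ K1 := K1.pow_mem ⟨hg, hgN, hga⟩ _
  have hpq : p ≠ q := fun e => h.hcop (e ▸ hk'o ▸ (Subgroup.orderOf_coe
    (⟨k', hk'K1.1, hk'K1.2.2⟩ : (D ⊓ stabilizer G a : Subgroup G))).symm ▸ orderOf_dvd_natCard _)
  obtain ⟨S, hS⟩ := (IsPGroup.of_card (G := zpowers (⟨k', hk'K1⟩ : K1)) (n := 1) (p := q) (by
    rw [Nat.card_zpowers, Subgroup.orderOf_mk, hk'o, pow_one])).exists_le_sylow
  set Q : Subgroup G := (S : Subgroup K1).map K1.subtype with hQ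
  have hQK1 : Q ≤ K1 := map_subtype_le _
  have hQq : IsPGroup q Q := S.isPGroup'.map _
  have hQi : ¬ q ∣ Q.relIndex K1 := by
    have : Q.subgroupOf K1 = S := comap_map_eq_self_of_injective K1.subtype_injective _
    rw [Subgroup.relIndex, this]
    exact S.not_dvd_index
  have hk'Q : k' ∈ Q := mem_map_of_mem K1.subtype (hS (mem_zpowers (⟨k', hk'K1⟩ : K1)))
  set L := H1 ⊓ normalizer (Q : Set G) with hL
  have hDL : D ⊔ L = ⊤ := frattini_cover (q := q) (A := H1) hn le_rfl h.cover (K := K1)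
    (fun x hx => ⟨hx.2, hx.1⟩) hQK1 hQq hQi
    (fun t ht x hx => ⟨hn.conj_mem x hx.1 t, H1.mul_mem (H1.mul_mem ht hx.2) (H1.inv_mem ht)⟩)
  have hQL : Q ≤ L ⊓ D := fun x hx => ⟨⟨(hQK1 hx).2, le_normalizer hx⟩, (hQK1 hx).1⟩
  have hdata : OpData p q k D.index P Q L (L ⊓ D) := by
    refine ⟨h.hp, Nat.minFac_prime hog, hpq, hcomm, hexp, h.hPcard.trans h.hn, ?_,
      le_trans inf_le_left inf_le_left, hQL, inf_le_left, ?_, ?_, hQq,
      fun l hl x hx => (Subgroup.mem_normalizer_iff.1 hl.2 x).1 hx, ?_, ?_⟩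
    · intro e
      have h1 := h.hn4
      rw [← h.hPcard, e, Subgroup.card_bot] at h1
      omega
    · rw [inf_relIndex_left]
      exact relIndex_eq_index hn hDL
    · intro l hl hlM v hv hv1 hc
      refine hv1 (h.eq_one_of_smul hv a ?_)
      refine h.setting.unique_fix l (fun e => hlM ⟨hl, e⟩) _ _ ?_ hl.1.2
      show l • v • a = v • a
      rw [smul_smul, hc.eq, mul_smul, mem_stabilizer_iff.1 hl.1.2]
    · intro x hx hc
      exact h.eq_one_of_commute (hQK1 hx).2.2 hc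
    · intro W hWP hinv
      exact h.bot_or_eq inf_le_left hDL hWP hinv hbad
  refine hbad (h.hn ▸ hdata.bound_of_fixed hlog hk'Q ?_ hy hy1 (hgy.pow_left _))
  intro e
  rw [e, orderOf_one] at hk'o
  exact (Nat.minFac_prime hog).ne_one hk'o.symm

end RegConf

end Cfsg.Agent.Derange
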