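import Cfsg.Agent.Derange.Basic

/-!
# The Sylow step: a regular Sylow subgroup, or the bound
-/

set_option autoImplicit false

namespace Cfsg.Agent.Derange

open MulAction Subgroup

variable {G Ω : Type*} [Group G] [Finite G] [MulAction G Ω] [Finite Ω]

/-- Conjugacy of two `q`-subgroups of full order inside a subgroup. -/
theorem exists_conj_of_index {q : ℕ} [Fact q.Prime] {K A B : Subgroup G} (hA : A ≤ K) (hB : B ≤ K)
    (hAq : IsPGroup q A) (hBq : IsPGroup q B) (hAi : ¬ q ∣ A.relIndex K) (hBi : ¬ q ∣ B.relIndex K) :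
    ∃ k ∈ K, ∀ x ∈ A, k * x * k⁻¹ ∈ B := by
  let SA : Sylow q K := (hAq.comap_of_injective K.subtype K.subtype_injective).toSylow hAi
  let SB : Sylow q K := (hBq.comap_of_injective K.subtype K.subtype_injective).toSylow hBi
  obtain ⟨k, hk⟩ := exists_smul_eq K SA SB
  refine ⟨k, k.2, fun x hx => ?_⟩
  have h1 : (⟨x, hA hx⟩ : K) ∈ (SA : Subgroup K) := hx
  have h2 : k * ⟨x, hA hx⟩ * k⁻¹ ∈ ((k • SA : Sylow q K) : Subgroup K) := by
    rw [Sylow.coe_subgroup_smul, Subgroup.mem_pointwise_smul_iff_inv_smul_mem]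
    simpa [MulAut.smul_def, mul_assoc] using h1
  rw [hk] at h2
  exact h2

/-- A conjugate of full order. -/
theorem mem_normalizer_of_conj_le {R : Subgroup G} {k : G} (h : ∀ x ∈ R, k * x * k⁻¹ ∈ R) :
    k ∈ normalizer (R : Set G) := by
  refine Subgroup.mem_normalizer_iff.2 fun x => ⟨h x, fun hx => ?_⟩
  have hsurj : Function.Surjective (fun x : R => (⟨k * x * k⁻¹, h x x.2⟩ : R)) :=
    Finite.surjective_of_injective fun x y e => Subtype.ext (by simpa using congrArg Subtype.val e)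
  obtain ⟨⟨y, hy⟩, e⟩ := hsurj ⟨k * x * k⁻¹, hx⟩
  have : y = x := by simpa using congrArg Subtype.val e
  exact this ▸ hy

/-- The Frattini argument. -/
theorem frattini_cover {q : ℕ} [Fact q.Prime] {D M A R : Subgroup G} (hn : D.Normal) (hA : A ≤ M)
    (hDA : D ⊔ A = ⊤) {K : Subgroup G} (hKM : K ≤ M ⊓ D) (hR : R ≤ K) (hRq : IsPGroup q R)
    (hRi : ¬ q ∣ R.relIndex K) (hKA : ∀ g ∈ A, ∀ x ∈ K, g * x * g⁻¹ ∈ K) :
    D ⊔ (M ⊓ normalizer (R : Set G)) = ⊤ := by
  have := hn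
  have hle : A ≤ D ⊔ (M ⊓ normalizer (R : Set G)) := by
    intro g hg
    set R' := R.map (MulAut.conj g).toMonoidHom with hR'
    have hR'K : R' ≤ K := by
      rintro _ ⟨x, hx, rfl⟩
      exact hKA g hg x (hR hx)
    have hcard : Nat.card R' = Nat.card R :=
      Subgroup.card_map_of_injective (MulAut.conj g).injective
    have hR'i : ¬ q ∣ R'.relIndex K := by
      have h1 : R'.relIndex K * Nat.card R' = R.relIndex K * Nat.card R := by
        rw [← relIndex_bot_left R', ← relIndex_bot_left R, mul_comm,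
          relIndex_mul_relIndex _ _ _ bot_le hR'K, mul_comm (R.relIndex K),
          relIndex_mul_relIndex _ _ _ bot_le hR]
      rw [hcard] at h1
      rw [Nat.eq_of_mul_eq_mul_right Nat.card_pos h1]
      exact hRi
    obtain ⟨k, hk, hkR⟩ := exists_conj_of_index hR'K hR (hRq.map _) hRq hR'i hRi
    have hkg : k * g ∈ normalizer (R : Set G) := mem_normalizer_of_conj_le fun x hx => by
      have h1 := hkR _ (mem_map_of_mem (MulAut.conj g).toMonoidHom hx)
      simpa [mul_assoc] using h1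
    rw [show g = k⁻¹ * (k * g) by group]
    exact mul_mem (mem_sup_left (inv_mem (hKM hk).2))
      (mem_sup_right ⟨mul_mem (hKM hk).1 (hA hg), hkg⟩)
  exact eq_top_iff.2 (le_trans hDA.ge (sup_le le_sup_left hle))

theorem card_eq_relIndex_mul {A B : Subgroup G} (h : A ≤ B) :
    Nat.card B = Nat.card A * A.relIndex B := by
  rw [← relIndex_bot_left A, ← relIndex_bot_left B, relIndex_mul_relIndex _ _ _ bot_le h]

variable {D : Subgroup G}

namespace Setting

variable (h : Setting D Ω)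
include h

omit [Finite Ω] in
theorem card_stab_eq (a γ : Ω) :
    Nat.card (D ⊓ stabilizer G γ : Subgroup G) = Nat.card (D ⊓ stabilizer G a : Subgroup G) := by
  have := h.normal
  obtain ⟨d, hd, rfl⟩ := h.trans a γ
  refine Nat.card_congr
    { toFun := fun g => ⟨d⁻¹ * g * d, D.mul_mem (D.mul_mem (D.inv_mem hd) g.2.1) hd, ?_⟩
      invFun := fun g => ⟨d * g * d⁻¹, D.mul_mem (D.mul_mem hd g.2.1) (D.inv_mem hd), ?_⟩
      left_inv := fun g => Subtype.ext (by simp [mul_assoc])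
      right_inv := fun g => Subtype.ext (by simp [mul_assoc]) }
  · show (d⁻¹ * (g : G) * d) • a = a
    rw [mul_smul, mul_smul, mem_stabilizer_iff.1 g.2.2, inv_smul_smul]
  · show (d * (g : G) * d⁻¹) • d • a = d • a
    rw [mul_smul, inv_smul_smul, mul_smul, mem_stabilizer_iff.1 g.2.2]

theorem card_eq (a : Ω) :
    Nat.card D = Nat.card Ω * Nat.card (D ⊓ stabilizer G a : Subgroup G) := by
  have htr : IsPretransitive D Ω := ⟨fun x y => by
    obtain ⟨d, hd, e⟩ := h.trans x y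
    exact ⟨⟨d, hd⟩, e⟩⟩
  rw [← Subgroup.index_mul_card (stabilizer D a), index_stabilizer_of_transitive]
  congr 1
  exact Nat.card_congr
    { toFun := fun g => ⟨((g : D) : G), (g : D).2, g.2⟩
      invFun := fun g => ⟨⟨(g : G), g.2.1⟩, g.2.2⟩
      left_inv := fun g => rfl
      right_inv := fun g => rfl }

/-- For a prime divisor of the degree: an orbit of `q`-power length congruent to `1`. -/
theorem sylow_step [FaithfulSMul G Ω] (hr : 2 ≤ D.index) (a : Ω) {q : ℕ} [hq : Fact q.Prime]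
    (hqn : q ∣ Nat.card Ω) :
    ∃ e, 1 ≤ e ∧ q ^ e ∣ Nat.card Ω ∧ D.index ∣ q ^ e - 1 ∧
      (q ^ e = Nat.card Ω → ∃ P : Subgroup G, P ≤ D ∧ Nat.card P = Nat.card Ω ∧
        (∀ x y : Ω, ∃ u ∈ P, u • x = y) ∧
        ¬ q ∣ Nat.card (D ⊓ stabilizer G a : Subgroup G)) := by
  have hn := h.normal
  set K := D ⊓ stabilizer G a with hK
  obtain ⟨S0⟩ := (inferInstance : Nonempty (Sylow q K))
  set R0 : Subgroup G := (S0 : Subgroup K).map K.subtype with hR0
  have hR0K : R0 ≤ K := map_subtype_le _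
  have hR0q : IsPGroup q R0 := S0.isPGroup'.map _
  have hR0i : ¬ q ∣ R0.relIndex K := by
    have : R0.subgroupOf K = S0 := comap_map_eq_self_of_injective K.subtype_injective _
    rw [Subgroup.relIndex, this]
    exact S0.not_dvd_index
  set F : Set Ω := {ω | ∀ x ∈ R0, x • ω = ω} with hF
  set M := normalizer (R0 : Set G) with hM
  have haF : a ∈ F := fun x hx => (hR0K hx).2
  -- stabilizers of points of `F`
  have hR0γ : ∀ γ ∈ F, R0 ≤ D ⊓ stabilizer G γ ∧ ¬ q ∣ R0.relIndex (D ⊓ stabilizer G γ) := by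
    intro γ hγ
    refine ⟨fun x hx => ⟨(hR0K hx).1, hγ x hx⟩, ?_⟩
    have h1 := card_eq_relIndex_mul (A := R0) (B := D ⊓ stabilizer G γ)
      (fun x hx => ⟨(hR0K hx).1, hγ x hx⟩)
    rw [h.card_stab_eq a γ, ← hK, card_eq_relIndex_mul hR0K] at h1
    rw [← Nat.eq_of_mul_eq_mul_left Nat.card_pos h1]
    exact hR0i
  have hsupH : D ⊔ stabilizer G a = ⊤ := by
    refine eq_top_iff.2 fun g _ => ?_
    obtain ⟨d, hd, hda⟩ := h.trans a (g • a)
    rw [show g = d * (d⁻¹ * g) by group]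
    refine mul_mem (mem_sup_left hd) (mem_sup_right ?_)
    show (d⁻¹ * g) • a = a
    rw [mul_smul, ← hda, inv_smul_smul]
  have hDM : D ⊔ M = ⊤ := by
    have h1 := frattini_cover (M := ⊤) hn le_top hsupH (K := K) (R := R0) (q := q)
      (fun x hx => ⟨mem_top x, hx.1⟩) hR0K hR0q hR0i (fun g hg x hx => ⟨hn.conj_mem x hx.1 g, by
        show (g * x * g⁻¹) • a = a
        rw [mul_smul, mul_smul, mem_stabilizer_iff.1 (inv_mem hg), mem_stabilizer_iff.1 hx.2,
          mem_stabilizer_iff.1 hg]⟩)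
    rwa [top_inf_eq] at h1
  -- `M ⊓ D` is transitive on `F`
  have htrF : ∀ γ ∈ F, ∃ d ∈ M ⊓ D, d • a = γ := by
    intro γ hγ
    obtain ⟨d, hd, hda⟩ := h.trans a γ
    set R' := R0.map (MulAut.conj d).toMonoidHom with hR'
    have hR'K : R' ≤ D ⊓ stabilizer G γ := by
      rintro _ ⟨x, hx, rfl⟩
      refine ⟨hn.conj_mem x (hR0K hx).1 d, ?_⟩
      show (d * x * d⁻¹) • γ = γ
      rw [← hda, mul_smul, inv_smul_smul, mul_smul, mem_stabilizer_iff.1 (hR0K hx).2]
    have hcard : Nat.card R' = Nat.card R0 :=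
      Subgroup.card_map_of_injective (MulAut.conj d).injective
    have hR'i : ¬ q ∣ R'.relIndex (D ⊓ stabilizer G γ) := by
      have h1 := card_eq_relIndex_mul hR'K
      rw [hcard, card_eq_relIndex_mul (hR0γ γ hγ).1] at h1
      rw [← Nat.eq_of_mul_eq_mul_left Nat.card_pos h1]
      exact (hR0γ γ hγ).2
    obtain ⟨k, hk, hkR⟩ := exists_conj_of_index hR'K (hR0γ γ hγ).1 (hR0q.map _) hR0q hR'i
      (hR0γ γ hγ).2
    refine ⟨k * d, ⟨mem_normalizer_of_conj_le fun x hx => ?_, mul_mem hk.1 hd⟩, ?_⟩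
    · have h1 := hkR _ (mem_map_of_mem (MulAut.conj d).toMonoidHom hx)
      simpa [mul_assoc] using h1
    · rw [mul_smul, hda, mem_stabilizer_iff.1 hk.2]
  have hMF : ∀ g ∈ M, ∀ ω ∈ F, g • ω ∈ F := by
    intro g hg ω hω x hx
    have h1 := (Subgroup.mem_normalizer_iff.1 (inv_mem hg) x).1 hx
    rw [inv_inv] at h1
    calc x • g • ω = g • (g⁻¹ * x * g) • ω := by simp [smul_smul, mul_assoc]
      _ = g • ω := by rw [hω _ h1]
  -- some element of `M` outside `D` fixes `a`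
  have hMa : D ⊔ (M ⊓ stabilizer G a) = ⊤ := by
    refine eq_top_iff.2 (le_trans hDM.ge (sup_le le_sup_left fun g hg => ?_))
    obtain ⟨d, hd, hda⟩ := htrF _ (hMF g hg a haF)
    rw [show g = d * (d⁻¹ * g) by group]
    refine mul_mem (mem_sup_left hd.2) (mem_sup_right ⟨M.mul_mem (M.inv_mem hd.1) hg, ?_⟩)
    show (d⁻¹ * g) • a = a
    rw [mul_smul, ← hda, inv_smul_smul]
  obtain ⟨y0, hy0, hy0D⟩ := exists_notMem_of_index hn hMa hr
  have hMfix : ∀ y ∈ M, y ∉ D → ∀ ω, y • ω = ω → ω ∈ F := by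
    intro y hy hyD ω hω
    obtain ⟨⟨g, hg⟩, hgω⟩ := (h.fixed_point_orbit hDM hy0.1 hy0D hy0.2).2 y hy hyD ω hω
    rw [← hgω]
    exact hMF g hg a haF
  -- a Sylow subgroup of `M ⊓ D`
  have hR0M : R0 ≤ M ⊓ D := le_inf le_normalizer (fun x hx => (hR0K hx).1)
  obtain ⟨S1, hS1⟩ := (hR0q.comap_of_injective (M ⊓ D).subtype
    (M ⊓ D).subtype_injective).exists_le_sylow
  set R1 : Subgroup G := (S1 : Subgroup ↥(M ⊓ D)).map (M ⊓ D).subtype with hR1
  have hR1MD : R1 ≤ M ⊓ D := map_subtype_le _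
  have hR1q : IsPGroup q R1 := S1.isPGroup'.map _
  have hR1i : ¬ q ∣ R1.relIndex (M ⊓ D) := by
    have : R1.subgroupOf (M ⊓ D) = S1 := comap_map_eq_self_of_injective (M ⊓ D).subtype_injective _
    rw [Subgroup.relIndex, this]
    exact S1.not_dvd_index
  have hR01 : R0 ≤ R1 := fun x hx => mem_map_of_mem (M ⊓ D).subtype
    (hS1 (x := ⟨x, hR0M hx⟩) hx)
  obtain ⟨m0, hm0⟩ := IsPGroup.iff_card.1 hR0q
  have hR1gt : R0.relIndex R1 ≠ 1 := by
    intro e
    have hDq : q ^ (m0 + 1) ∣ Nat.card D := by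
      rw [h.card_eq a, pow_succ', ← hm0]
      exact Nat.mul_dvd_mul hqn (Subgroup.card_dvd_of_le hR0K)
    have hR0D : R0 ≤ D := fun x hx => (hR0K hx).1
    have h1 := Sylow.prime_pow_dvd_card_normalizer (H := R0.subgroupOf D) hDq
      (by rw [Nat.card_congr (Subgroup.subgroupOfEquivOfLe hR0D).toEquiv, hm0])
    have h2 : Nat.card (normalizer ((R0.subgroupOf D : Subgroup D) : Set D)) ∣
        Nat.card (M ⊓ D : Subgroup G) := by
      rw [← Subgroup.card_map_of_injective D.subtype_injective]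
      refine Subgroup.card_dvd_of_le ?_
      rintro _ ⟨g, hg, rfl⟩
      refine ⟨mem_normalizer_of_conj_le fun x hx => ?_, g.2⟩
      exact (Subgroup.mem_normalizer_iff.1 hg ⟨x, hR0D hx⟩).1 hx
    have h3 := h1.trans h2
    rw [card_eq_relIndex_mul hR1MD, card_eq_relIndex_mul hR01, e, mul_one, hm0, pow_succ] at h3
    exact hR1i (Nat.dvd_of_mul_dvd_mul_left (pow_pos hq.out.pos _) h3)
  obtain ⟨e, he⟩ : ∃ e, R0.relIndex R1 = q ^ e := hR1q.index (R0.subgroupOf R1)
  have he1 : 1 ≤ e := Nat.pos_of_ne_zero fun e0 => hR1gt (by rw [he, e0, pow_zero])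
  -- the normalizer of `R1` in `M`
  set Y := M ⊓ normalizer (R1 : Set G) with hY
  have hDY : D ⊔ Y = ⊤ := frattini_cover hn le_rfl hDM le_rfl hR1MD hR1q hR1i
    (fun g hg x hx => ⟨M.mul_mem (M.mul_mem hg hx.1) (M.inv_mem hg), hn.conj_mem x hx.2 g⟩)
  obtain ⟨y1, hy1, hy1D⟩ := exists_notMem_of_index hn hDY hr
  obtain ⟨γ, hγ⟩ := h.exists_fix y1 hy1D
  have hγF : γ ∈ F := hMfix y1 hy1.1 hy1D γ hγ
  obtain ⟨hL, -⟩ := h.fixed_point_orbit hDY hy1 hy1D hγ
  have hstab : R1 ⊓ stabilizer G γ = R0 := by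
    have hle : R0 ≤ R1 ⊓ stabilizer G γ := fun x hx => ⟨hR01 hx, hγF x hx⟩
    refine le_antisymm ?_ hle
    obtain ⟨f, hf⟩ := (hR1q.to_le inf_le_left).index (R0.subgroupOf (R1 ⊓ stabilizer G γ))
    rcases Nat.eq_zero_or_pos f with rfl | hfpos
    · exact relIndex_eq_one.1 hf
    · exfalso
      apply (hR0γ γ hγF).2
      rw [← relIndex_mul_relIndex R0 (R1 ⊓ stabilizer G γ) (D ⊓ stabilizer G γ) hle
        (fun x hx => ⟨(hR1MD hx.1).2, hx.2⟩)]
      refine dvd_mul_of_dvd_left ?_ _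
      show q ∣ (R0.subgroupOf _).index
      rw [hf]
      exact dvd_pow_self q (by omega)
  have horb : (orbit R1 γ).ncard = q ^ e := by
    rw [← index_stabilizer, ← he, ← hstab, inf_relIndex_left]
    rfl
  have hdvd : D.index ∣ q ^ e - 1 := by
    have h1 := h.index_dvd_card (L := Y ⊓ stabilizer G γ) inf_le_right hL
      (orbit R1 γ \ {γ}) (by simp) (fun g hg ω hω => by
        obtain ⟨⟨u, hu⟩, hω1⟩ := hω.1
        refine ⟨⟨⟨g * u * g⁻¹, (Subgroup.mem_normalizer_iff.1 hg.1.2 u).1 hu⟩, ?_⟩, fun e' => hω.2 ?_⟩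
        · show (g * u * g⁻¹) • γ = g • ω
          rw [← hω1, mul_smul, mem_stabilizer_iff.1 (inv_mem hg.2), mul_smul]
          rfl
        · rw [Set.mem_singleton_iff] at e' ⊢
          exact smul_left_cancel g (e'.trans (mem_stabilizer_iff.1 hg.2).symm))
    rwa [Set.ncard_sdiff_singleton_of_mem (mem_orbit_self γ), horb] at h1
  refine ⟨e, he1, ?_, hdvd, fun hfull => ?_⟩
  · have h1 : q ^ e * Nat.card R0 ∣ Nat.card Ω * Nat.card K := by
      rw [← h.card_eq a, ← he, mul_comm, ← card_eq_relIndex_mul hR01]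
      exact Subgroup.card_dvd_of_le (le_trans hR1MD inf_le_right)
    rw [card_eq_relIndex_mul hR0K, ← mul_assoc, mul_comm (Nat.card Ω) (Nat.card R0),
      mul_comm (q ^ e), mul_assoc] at h1
    exact (Nat.Coprime.dvd_of_dvd_mul_right ((hq.out.coprime_iff_not_dvd.2 hR0i).pow_left e)
      (Nat.dvd_of_mul_dvd_mul_left Nat.card_pos h1))
  · have huniv : orbit R1 γ = Set.univ := Set.eq_of_subset_of_ncard_le (Set.subset_univ _)
      (by rw [Set.ncard_univ, horb, hfull]) (Set.toFinite _)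
    have hR0bot : R0 = ⊥ := (eq_bot_iff_forall _).2 fun x hx => FaithfulSMul.eq_of_smul_eq_smul
      fun ω : Ω => by
        obtain ⟨⟨u, hu⟩, rfl⟩ : ω ∈ orbit R1 γ := huniv ▸ Set.mem_univ ω
        have h1 := (Subgroup.mem_normalizer_iff.1 (inv_mem (hR1MD hu).1) x).1 hx
        rw [inv_inv] at h1
        rw [one_smul]
        show x • u • γ = u • γ
        calc x • u • γ = u • (u⁻¹ * x * u) • γ := by simp [smul_smul, mul_assoc]
          _ = u • γ := by rw [hγF _ h1]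
    refine ⟨R1, le_trans hR1MD inf_le_right, ?_, fun x y => ?_, ?_⟩
    · rw [card_eq_relIndex_mul hR01, he, hfull, hR0bot, Subgroup.card_bot, one_mul]
    · obtain ⟨⟨u, hu⟩, hx⟩ : x ∈ orbit R1 γ := huniv ▸ Set.mem_univ x
      obtain ⟨⟨v, hv⟩, hy⟩ : y ∈ orbit R1 γ := huniv ▸ Set.mem_univ y
      refine ⟨v * u⁻¹, mul_mem hv (inv_mem hu), ?_⟩
      rw [← hx, ← hy]
      show (v * u⁻¹) • u • γ = v • γ
      rw [mul_smul, inv_smul_smul]
    · intro hd
      apply hR0i
      rw [hR0bot, relIndex_bot_left]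
      exact hd

/-- The bound, or a regular Sylow subgroup of `D`. -/
theorem bound_or_regular [FaithfulSMul G Ω] (hr : 2 ≤ D.index) (hn : 4 ≤ Nat.card Ω) (a : Ω) :
    (D.index + 1) ^ 2 ≤ Nat.card Ω ∨ ∃ (p k : ℕ) (P : Subgroup G), p.Prime ∧
      Nat.card Ω = p ^ k ∧ P ≤ D ∧ Nat.card P = Nat.card Ω ∧
      (∀ x y : Ω, ∃ u ∈ P, u • x = y) ∧
      ¬ p ∣ Nat.card (D ⊓ stabilizer G a : Subgroup G) := by
  set q := (Nat.card Ω).minFac with hqdef
  have := Fact.mk (Nat.minFac_prime (n := Nat.card Ω) (by omega))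
  obtain ⟨e, he, hdvd, hr1, hfull⟩ := h.sylow_step hr a (q := q) (Nat.minFac_dvd _)
  by_cases hne : q ^ e = Nat.card Ω
  · obtain ⟨P, h1, h2, h3, h4⟩ := hfull hne
    exact Or.inr ⟨q, e, P, Fact.out, hne.symm, h1, h2, h3, h4⟩
  · left
    obtain ⟨v, hv⟩ := hdvd
    have hu : 2 ≤ q ^ e :=
      le_trans (Nat.Prime.two_le (p := q) Fact.out) (Nat.le_self_pow (by omega) q)
    have hv2 : 2 ≤ v := by
      by_contra hlt
      rcases Nat.eq_zero_or_pos v with rfl | hv0
      · rw [mul_zero] at hv; omega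
      · rw [show v = 1 by omega, mul_one] at hv; exact hne hv.symm
    exact sq_le_of_dvd_factor hu hv2 hv.symm hr1 (h.index_dvd_sub_one a)

end Setting

end Cfsg.Agent.Derange
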